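import Mathlib

/-!
# The base point of the inverse of the blowing-up of a closed point of a surface

Let `R ⊆ S` be local domains with the same fraction field, the inclusion local, `S` factorial and the maximal
ideal of `R` generated by `u` and `v`.  Then one cannot write `u = g a`, `v = g b` with `g, a, b` nonunits of `S`
and `a`, `b` without common factor.
-/

set_option autoImplicit false
universe u

open Polynomial IsLocalRing

namespace Groth.Agent.Lib.SurfFactor85.Alg

section cancel

variable {S : Type u} [CommRing S] [IsDomain S]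

/-- The linear polynomial `b X - a`. -/
noncomputable def lin (a b : S) : S[X] := C b * X - C a

variable [UniqueFactorizationMonoid S]

theorem isRelPrime_C_lin {a b c : S} (hc : c ≠ 0) (hab : IsRelPrime a b) :
    IsRelPrime (C c) (lin a b) := by
  intro d hdc hdl
  have hd0 : d.natDegree = 0 := by
    have := Polynomial.natDegree_le_of_dvd hdc (by simpa using hc)
    rw [natDegree_C] at this
    omega
  obtain ⟨e, rfl⟩ := natDegree_eq_zero.mp hd0
  rw [C_dvd_iff_dvd_coeff] at hdl
  have h0 := hdl 0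
  have h1 := hdl 1
  simp [lin] at h0 h1
  exact (hab h0 h1).map C

theorem eq_zero_of_C_mul {a b c : S} (hc : c ≠ 0) (hab : IsRelPrime a b)
    (z : S[X] ⧸ Ideal.span {lin a b}) (h : Ideal.Quotient.mk _ (C c) * z = 0) : z = 0 := by
  obtain ⟨F, rfl⟩ := Ideal.Quotient.mk_surjective z
  rw [← map_mul, Ideal.Quotient.eq_zero_iff_mem, Ideal.mem_span_singleton] at h
  obtain ⟨H, hH⟩ := h
  have hdvd : C c ∣ H := (isRelPrime_C_lin hc hab).dvd_of_dvd_mul_left ⟨F, hH.symm⟩
  obtain ⟨H', rfl⟩ := hdvd
  rw [Ideal.Quotient.eq_zero_iff_mem, Ideal.mem_span_singleton]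
  refine ⟨H', mul_left_cancel₀ (C_ne_zero.mpr hc) ?_⟩
  rw [hH]; ring

end cancel

theorem pow_le_span {R : Type u} [CommRing R] {I : Ideal R} {x y : R} (hI : I = Ideal.span {x, y}) (n : ℕ) :
    I ^ n ≤ Ideal.span (Set.range fun i : Fin (n + 1) => x ^ (i : ℕ) * y ^ (n - (i : ℕ))) := by
  induction n with
  | zero =>
    rw [pow_zero, Ideal.one_eq_top, top_le_iff, Ideal.eq_top_iff_one]
    exact Ideal.subset_span ⟨0, by simp⟩
  | succ n ih =>
    rw [pow_succ]
    refine (Ideal.mul_mono ih hI.le).trans ?_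
    rw [Ideal.span_mul_span', Ideal.span_le]
    rintro _ ⟨_, ⟨i, rfl⟩, z, hz, rfl⟩
    have hi : (i : ℕ) ≤ n := Nat.lt_succ_iff.mp i.2
    rcases hz with rfl | rfl
    · refine Ideal.subset_span ⟨⟨i + 1, by omega⟩, ?_⟩
      simp only [Nat.add_sub_add_right, pow_succ]
      ring
    · refine Ideal.subset_span ⟨⟨i, by omega⟩, ?_⟩
      simp only [Nat.succ_sub hi, pow_succ]
      ring

section main

variable {R S : Type u} [CommRing R] [IsDomain R] [IsLocalRing R] [IsNoetherianRing R]
  [CommRing S] [IsDomain S] [IsLocalRing S] [UniqueFactorizationMonoid S]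

theorem not_base_point (φ : R →+* S) [IsLocalHom φ] (hinj : Function.Injective φ) (x y : R)
    (hm : maximalIdeal R = Ideal.span {x, y})
    (hfr : ∀ s : S, ∃ r₁ r₂ : R, r₂ ≠ 0 ∧ φ r₂ * s = φ r₁)
    (g a b : S) (hg0 : g ≠ 0) (hg : g ∈ maximalIdeal S) (ha : a ∈ maximalIdeal S)
    (hb : b ∈ maximalIdeal S) (hab : IsRelPrime a b) (hx : φ x = g * a) (hy : φ y = g * b) : False := by
  classical
  have hb0 : b ≠ 0 := fun h => by
    subst h
    exact (IsLocalRing.mem_maximalIdeal a).mp ha (hab dvd_rfl (dvd_zero a))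
  set π : S[X] →+* S[X] ⧸ Ideal.span {lin a b} := Ideal.Quotient.mk _ with hπ
  set t := π X
  have hat : π (C b) * t = π (C a) := by
    rw [← map_mul, Ideal.Quotient.eq]
    exact Ideal.mem_span_singleton_self _
  let q : (S[X] ⧸ Ideal.span {lin a b}) →+* (ResidueField S)[X] :=
    Ideal.Quotient.lift _ (mapRingHom (residue S)) fun p hp => by
      obtain ⟨c, rfl⟩ := Ideal.mem_span_singleton.mp hp
      rw [map_mul]
      simp [lin, (residue_eq_zero_iff a).mpr ha, (residue_eq_zero_iff b).mpr hb]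
  have hqC : ∀ s, q (π (C s)) = C (residue S s) := fun s => by simp [q, π]
  have hqt : q t = X := by simp [q, π, t]
  set K := π (C (g * b)) with hK
  have hKc : ∀ n : ℕ, ∀ z z', K ^ n * z = K ^ n * z' → z = z' := fun n z z' h => by
    rw [hK, ← map_pow, ← map_pow, ← sub_eq_zero, ← mul_sub] at h
    exact sub_eq_zero.mp (eq_zero_of_C_mul (pow_ne_zero _ (mul_ne_zero hg0 hb0)) hab _ h)
  have hqK : q K = 0 := by
    rw [hK, hqC, (residue_eq_zero_iff _).mpr (Ideal.mul_mem_left _ g hb), map_zero]
  have hkx : π (C (φ x)) = K * t := by rw [hx, hK, C_mul, C_mul, map_mul, map_mul, mul_assoc, hat]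
  have hky : π (C (φ y)) = K := by rw [hy]
  have rep : ∀ r : R, r ≠ 0 → ∃ (n : ℕ) (G : S[X] ⧸ Ideal.span {lin a b}),
      π (C (φ r)) = K ^ n * G ∧ q G ≠ 0 := by
    intro r hr
    have hex : ∃ n, r ∉ maximalIdeal R ^ (n + 1) := by
      by_contra h
      push Not at h
      apply hr
      rw [← Ideal.mem_bot, ← Ideal.iInf_pow_eq_bot_of_isLocalRing (maximalIdeal R)
        (IsLocalRing.maximalIdeal.isMaximal R).ne_top, Submodule.mem_iInf]
      intro i
      cases i with
      | zero => simp
      | succ i => exact h i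
    have hn : r ∈ maximalIdeal R ^ Nat.find hex := by
      rcases hk : Nat.find hex with _ | k
      · simp
      · exact not_not.mp (Nat.find_min hex (show k < Nat.find hex by omega))
    have hn' := Nat.find_spec hex
    generalize Nat.find hex = n at hn hn'
    obtain ⟨c, hc⟩ := Submodule.mem_span_range_iff_exists_fun R |>.mp (pow_le_span hm n hn)
    refine ⟨n, ∑ i : Fin (n + 1), π (C (φ (c i))) * t ^ (i : ℕ), ?_, ?_⟩
    · rw [← hc, map_sum, map_sum, map_sum, Finset.mul_sum]
      refine Finset.sum_congr rfl fun i _ => ?_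
      have hi : (i : ℕ) + (n - i) = n := by have := i.2; omega
      simp only [smul_eq_mul, map_mul, map_pow, hkx, hky]
      rw [show K ^ n = K ^ (i : ℕ) * K ^ (n - i) by rw [← pow_add, hi]]
      ring
    · intro hG
      apply hn'
      rw [← hc]
      refine sum_mem fun i _ => ?_
      rw [smul_eq_mul, pow_succ']
      refine Ideal.mul_mem_mul ?_ ?_
      · rw [map_sum] at hG
        simp only [map_mul, map_pow, hqC, hqt] at hG
        have hco := congrArg (fun p => p.coeff (i : ℕ)) hG
        simp [Fin.val_inj] at hco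
        exact (IsLocalRing.mem_maximalIdeal _).mpr hco
      · have hi : (i : ℕ) + (n - i) = n := by have := i.2; omega
        have := Ideal.mul_mem_mul
          (Ideal.pow_mem_pow (show x ∈ maximalIdeal R by rw [hm]; exact Ideal.subset_span (by simp)) (i : ℕ))
          (Ideal.pow_mem_pow (show y ∈ maximalIdeal R by rw [hm]; exact Ideal.subset_span (by simp)) (n - i))
        rwa [← pow_add, hi] at this
  obtain ⟨r₁, r₂, hr₂, hr⟩ := hfr g
  have hr₁ : r₁ ≠ 0 := by
    rintro rfl
    rw [map_zero, mul_eq_zero] at hr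
    exact hr.elim (fun h => hr₂ (hinj (h.trans (map_zero φ).symm))) hg0
  obtain ⟨n, G, hG, hqG⟩ := rep r₂ hr₂
  obtain ⟨j, F, hF, hqF⟩ := rep r₁ hr₁
  have key : K ^ n * G * π (C g) = K ^ j * F := by rw [← hG, ← hF, ← map_mul, ← C_mul, hr]
  have hqg : q (π (C g)) = 0 := by rw [hqC, (residue_eq_zero_iff g).mpr hg, map_zero]
  rcases Nat.lt_or_ge n j with hnj | hjn
  · obtain ⟨d, rfl⟩ := Nat.exists_eq_add_of_lt hnj
    have h1 : G * π (C g) = K ^ (d + 1) * F := hKc n _ _ (by
      rw [← mul_assoc, ← mul_assoc, ← pow_add, key, add_assoc])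
    have h2 : G = π (C b) * (K ^ d * F) := by
      have : π (C g) * (G - π (C b) * (K ^ d * F)) = 0 := by
        rw [mul_sub, mul_comm, h1, pow_succ', hK, C_mul, map_mul]; ring
      exact sub_eq_zero.mp (eq_zero_of_C_mul hg0 hab _ this)
    apply hqG
    rw [h2, map_mul, hqC, (residue_eq_zero_iff b).mpr hb, map_zero, zero_mul]
  · obtain ⟨d, rfl⟩ := Nat.exists_eq_add_of_le hjn
    have h1 : F = K ^ d * G * π (C g) := hKc j _ _ (by rw [← key, pow_add]; ring)
    apply hqF
    rw [h1, map_mul, hqg, mul_zero]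

end main

end Groth.Agent.Lib.SurfFactor85.Alg
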