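import Groth.Prelude.Def_BlowUp2
import Groth.Prelude.Def_CurvBase
import Groth.Agent.Lib.SurfFactor85.Alg
import Groth.Agent.Lib.CartierDescent.Stalk
import Groth.Agent.Lib.Regular.UFD
import Groth.Agent.Lib.ZMTStein.Normal
import Groth.Agent.Lib.AlgSpDecent.IsolatedPt
import Groth.Agent.Lib.SmoothCurve.Stalk
import Groth.Agent.S5094
import Mathlib

/-!
# A birational morphism of regular surfaces factors through the blowing-up of a point where its inverse is
# not defined
-/

set_option autoImplicit false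
universe u

open CategoryTheory CategoryTheory.Limits AlgebraicGeometry TopologicalSpace IsLocalRing

namespace Groth.Agent.Lib.SurfFactor85.Main

open Groth.Agent.Lib.Ideal.Prime Groth.Agent.Lib.CDivInt.Factorial Groth.Agent.Lib.CartierDescent

variable {X Y : Scheme.{u}}

theorem stalkIdeal_vanishingIdeal_self (y : Y) (hy : IsClosed ({y} : Set Y)) :
    stalkIdeal (Scheme.IdealSheafData.vanishingIdeal ⟨{y}, hy⟩) y = maximalIdeal (Y.presheaf.stalk y) := by
  obtain ⟨U, hU, hyU, -⟩ :=
    exists_isAffineOpen_mem_and_subset (show y ∈ (⊤ : Y.Opens) from trivial)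
  rw [stalkIdeal_eq _ ⟨U, hU⟩ hyU, Scheme.IdealSheafData.vanishingIdeal_ideal]
  have hpre : hU.fromSpec ⁻¹' ({y} : Set Y) = {hU.primeIdealOf ⟨y, hyU⟩} := by
    ext q
    simp only [Set.mem_preimage, Set.mem_singleton_iff]
    exact ⟨fun h => hU.fromSpec.isOpenEmbedding.injective (by rw [h, hU.fromSpec_primeIdealOf]),
      fun h => by rw [h, hU.fromSpec_primeIdealOf]⟩
  change Ideal.map _ (PrimeSpectrum.vanishingIdeal (hU.fromSpec ⁻¹' ({y} : Set Y))) = _
  erw [hpre]
  erw [PrimeSpectrum.vanishingIdeal_singleton]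
  letI := Y.presheaf.algebra_section_stalk (U := U) ⟨y, hyU⟩
  haveI : IsLocalization.AtPrime (Y.presheaf.stalk y) (hU.primeIdealOf ⟨y, hyU⟩).asIdeal :=
    hU.isLocalization_stalk ⟨y, hyU⟩
  exact IsLocalization.AtPrime.map_eq_maximalIdeal _ (Y.presheaf.stalk y)

theorem primeOf_eq_maximal {a b : Y} (h : a ⤳ b) (hab : a = b) :
    primeOf h = maximalIdeal (Y.presheaf.stalk b) := by
  subst hab
  ext r
  show (¬ IsUnit (Y.presheaf.stalkSpecializes h r)) ↔ _
  rw [TopCat.Presheaf.stalkSpecializes_refl, mem_maximalIdeal, mem_nonunits_iff]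
  rfl

theorem injective_specializes [IsIntegral Y] {η y : Y} (hη : η = genericPoint Y) (h : η ⤳ y) :
    Function.Injective (Y.presheaf.stalkSpecializes h) := by
  subst hη
  exact IsFractionRing.injective (Y.presheaf.stalk y) Y.functionField

theorem exists_frac [IsIntegral Y] {η y : Y} (hη : η = genericPoint Y) (h : η ⤳ y)
    (z : Y.presheaf.stalk η) :
    ∃ r₁ r₂ : Y.presheaf.stalk y, r₂ ≠ 0 ∧
      Y.presheaf.stalkSpecializes h r₂ * z = Y.presheaf.stalkSpecializes h r₁ := by
  subst hη
  obtain ⟨⟨r₁, r₂⟩, hr⟩ := IsLocalization.surj (nonZeroDivisors (Y.presheaf.stalk y))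
    (show Y.functionField from z)
  exact ⟨r₁, r₂, nonZeroDivisors.ne_zero r₂.2, (mul_comm _ _).trans hr⟩

variable [IsIntegral X] [IsIntegral Y]

theorem injective_stalkMap (f : X ⟶ Y) (hgen : f (genericPoint X) = genericPoint Y)
    (hbir : Function.Bijective (f.stalkMap (genericPoint X))) (x : X) :
    Function.Injective (f.stalkMap x) := by
  intro r r' hr
  have hsp := genericPoint_specializes x
  refine injective_specializes hgen (hsp.map f.continuous) (hbir.1 ?_)
  rw [Scheme.Hom.stalkSpecializes_stalkMap_apply f _ _ hsp, Scheme.Hom.stalkSpecializes_stalkMap_apply f _ _ hsp, hr]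

theorem exists_fraction (f : X ⟶ Y) (hgen : f (genericPoint X) = genericPoint Y)
    (hbir : Function.Bijective (f.stalkMap (genericPoint X))) (x : X) (s : X.presheaf.stalk x) :
    ∃ r₁ r₂ : Y.presheaf.stalk (f x), r₂ ≠ 0 ∧ f.stalkMap x r₂ * s = f.stalkMap x r₁ := by
  have hsp := genericPoint_specializes x
  obtain ⟨z, hz⟩ := hbir.2 (X.presheaf.stalkSpecializes hsp s)
  obtain ⟨r₁, r₂, hr₂, hr⟩ := exists_frac hgen (hsp.map f.continuous) z
  refine ⟨r₁, r₂, hr₂, injective_specializes rfl hsp ?_⟩
  rw [map_mul, ← hz, ← Scheme.Hom.stalkSpecializes_stalkMap_apply,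
    ← Scheme.Hom.stalkSpecializes_stalkMap_apply, ← map_mul, hr]

set_option backward.isDefEq.respectTransparency.types false in
theorem stalkIdeal_principal_of_mem [IsLocallyNoetherian X] [IsLocallyNoetherian Y]
    (f : X ⟶ Y) [IsSeparated f] [LocallyOfFiniteType f]
    (hgen : f (genericPoint X) = genericPoint Y)
    (hbir : Function.Bijective (f.stalkMap (genericPoint X)))
    (hdimX : topologicalKrullDim X ≤ 2)
    (hX : ∀ x : X, IsRegularLocalRing (X.presheaf.stalk x)) (x : X)
    [IsRegularLocalRing (Y.presheaf.stalk (f x))] (hdimy : ringKrullDim (Y.presheaf.stalk (f x)) ≤ 2)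
    (hne : maximalIdeal (Y.presheaf.stalk (f x)) ≠ ⊥)
    (hno : ∀ U : Y.Opens, f x ∈ U → ¬ IsIso (f ∣_ U)) :
    ∃ p, p ≠ 0 ∧ (maximalIdeal (Y.presheaf.stalk (f x))).map (f.stalkMap x).hom = Ideal.span {p} := by
  classical
  haveI := hX x
  haveI := Regular.UFD.uniqueFactorizationMonoid (X.presheaf.stalk x)
  set φ := (f.stalkMap x).hom
  have hinj : Function.Injective φ := injective_stalkMap f hgen hbir x
  -- two generators
  obtain ⟨u, v, hm⟩ : ∃ u v, maximalIdeal (Y.presheaf.stalk (f x)) = Ideal.span {u, v} := by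
    obtain ⟨T, hT, hTm⟩ := Submodule.FG.exists_span_set_encard_eq_spanFinrank
      (IsNoetherian.noetherian (maximalIdeal (Y.presheaf.stalk (f x))))
    have hle : T.encard ≤ 2 := by
      rw [hT]
      have := IsRegularLocalRing.spanFinrank_maximalIdeal (R := Y.presheaf.stalk (f x))
      have h2 : ((maximalIdeal (Y.presheaf.stalk (f x))).spanFinrank : WithBot ℕ∞) ≤ 2 := this.le.trans hdimy
      exact_mod_cast h2
    rcases Set.eq_empty_or_nonempty T with rfl | ⟨u, hu⟩
    · exact absurd (by rw [← hTm, Submodule.span_empty]) hne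
    rcases Set.eq_empty_or_nonempty (T \ {u}) with h | ⟨v, hv⟩
    · refine ⟨u, u, ?_⟩
      rw [← hTm, Set.pair_eq_singleton]
      congr 1
      exact Set.Subset.antisymm (Set.diff_eq_empty.mp h) (Set.singleton_subset_iff.mpr hu)
    · refine ⟨u, v, ?_⟩
      rw [← hTm]
      congr 1
      refine (Set.Finite.eq_of_subset_of_encard_le' (Set.encard_lt_top_iff.mp (hle.trans_lt (ENat.coe_lt_top 2)))
        (Set.insert_subset hu (Set.singleton_subset_iff.mpr hv.1)) ?_).symm
      rw [Set.encard_pair (fun e => hv.2 e.symm)]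
      exact hle
  have hU' : φ u ≠ 0 ∨ φ v ≠ 0 := by
    by_contra h
    push Not at h
    apply hne
    rw [hm, Ideal.span_eq_bot]
    rintro z (rfl | rfl)
    · exact hinj (h.1.trans (map_zero φ).symm)
    · exact hinj (h.2.trans (map_zero φ).symm)
  rw [hm, Ideal.map_span, Set.image_pair]
  change ∃ p, p ≠ 0 ∧ Ideal.span {φ u, φ v} = Ideal.span {p}
  obtain ⟨a, b, g, hab, hga, hgb, hg0⟩ : ∃ a b g : X.presheaf.stalk x,
      IsRelPrime a b ∧ g * a = φ u ∧ g * b = φ v ∧ g ≠ 0 := by
    rcases hU' with h | h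
    · obtain ⟨a, b, g, h1, h2, h3⟩ := UniqueFactorizationMonoid.exists_reduced_factors _ h (φ v)
      exact ⟨a, b, g, h1, h2, h3, left_ne_zero_of_mul (h2.trans_ne h)⟩
    · obtain ⟨a, b, g, h1, h2, h3⟩ := UniqueFactorizationMonoid.exists_reduced_factors' (φ u) _ h
      exact ⟨a, b, g, h1, h2, h3, left_ne_zero_of_mul (h3.trans_ne h)⟩
  by_cases hua : IsUnit a ∨ IsUnit b
  · refine ⟨g, hg0, ?_⟩
    refine le_antisymm (Ideal.span_le.mpr ?_) (Ideal.span_le.mpr ?_)
    · rintro z (rfl | rfl)
      · exact Ideal.mem_span_singleton.mpr ⟨a, hga.symm⟩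
      · exact Ideal.mem_span_singleton.mpr ⟨b, hgb.symm⟩
    · rintro z rfl
      rcases hua with ha | hb
      · exact (Ideal.mul_unit_mem_iff_mem _ ha).mp (hga ▸ Ideal.subset_span (by simp))
      · exact (Ideal.mul_unit_mem_iff_mem _ hb).mp (hgb ▸ Ideal.subset_span (by simp))
  push Not at hua
  obtain ⟨ha, hb⟩ := hua
  by_cases hgu : IsUnit g
  swap
  · exact (Alg.not_base_point φ hinj u v hm (exists_fraction f hgen hbir x) g a b hg0
      ((mem_maximalIdeal g).mpr hgu) ((mem_maximalIdeal a).mpr ha) ((mem_maximalIdeal b).mpr hb) hab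
      hga.symm hgb.symm).elim
  exfalso
  have hdimS : ringKrullDim (X.presheaf.stalk x) ≤ 2 := by
    rw [ringKrullDim_stalk_eq_coheight]
    exact (SmoothCurve.Stalk.coheight_le_topologicalKrullDim x).trans hdimX
  have hrel : ∀ π₀ : X.presheaf.stalk x, Prime π₀ → π₀ ∣ φ u → π₀ ∣ φ v → False := by
    intro π₀ hπ h1 h2
    rw [← hga, hgu.dvd_mul_left] at h1
    rw [← hgb, hgu.dvd_mul_left] at h2
    exact hπ.not_unit (hab h1 h2)
  -- the primes containing both images are maximal
  have hmax : ∀ p : Ideal (X.presheaf.stalk x), p.IsPrime → φ u ∈ p → φ v ∈ p →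
      p = maximalIdeal (X.presheaf.stalk x) := by
    intro p hp hpu hpv
    by_contra hpm
    have hpne : p ≠ ⊥ := by
      rintro rfl
      exact hU'.elim (fun h => h hpu) (fun h => h hpv)
    obtain ⟨π₀, hπp, hπ⟩ := Ideal.IsPrime.exists_mem_prime_of_ne_bot hp hpne
    have hsp : (Ideal.span {π₀}).IsPrime := (Ideal.span_singleton_prime hπ.ne_zero).mpr hπ
    let s : LTSeries (PrimeSpectrum (X.presheaf.stalk x)) := LTSeries.mk 3
      ![⟨⊥, Ideal.isPrime_bot⟩, ⟨_, hsp⟩, ⟨p, hp⟩, ⟨maximalIdeal _, inferInstance⟩] (by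
        refine Fin.strictMono_iff_lt_succ.mpr fun i => ?_
        fin_cases i
        · show (⊥ : Ideal (X.presheaf.stalk x)) < Ideal.span {π₀}
          exact bot_lt_iff_ne_bot.mpr (by simpa using hπ.ne_zero)
        · refine lt_of_le_of_ne ((Ideal.span_singleton_le_iff_mem _).mpr hπp) fun he => ?_
          have he' : Ideal.span {π₀} = p := congrArg PrimeSpectrum.asIdeal he
          rw [← he', Ideal.mem_span_singleton] at hpu hpv
          exact hrel π₀ hπ hpu hpv
        · exact lt_of_le_of_ne (le_maximalIdeal hp.ne_top) fun he => hpm (congrArg PrimeSpectrum.asIdeal he))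
    have h3 := (Order.LTSeries.length_le_krullDim s).trans hdimS
    change ((3 : ℕ) : WithBot ℕ∞) ≤ 2 at h3
    norm_cast at h3
  have hgenz : ∀ z : X, z ⤳ x → f z = f x → z = x := by
    intro z hz hfz
    have hc := comap_primeOf f hz
    rw [primeOf_eq_maximal (hz.map f.continuous) hfz] at hc
    have hmem : ∀ r ∈ maximalIdeal (Y.presheaf.stalk (f x)), φ r ∈ primeOf hz := fun r hr =>
      Ideal.mem_comap.mp (hc.symm ▸ hr : r ∈ (primeOf hz).comap (f.stalkMap x).hom)
    have hp := hmax (primeOf hz) inferInstance (hmem u (hm ▸ Ideal.subset_span (by simp)))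
      (hmem v (hm ▸ Ideal.subset_span (by simp)))
    exact (hz.antisymm (specializes_of_primeOf_le hz (specializes_refl x)
      (by rw [hp, primeOf_eq_maximal _ rfl]))).eq
  have hspz : ∀ z : X, x ⤳ z → z = x := by
    intro z hz
    by_contra hzx
    have hlt : z < x := lt_of_le_not_ge hz (fun h => hzx (hz.antisymm h).eq.symm)
    have h2 : (2 : ℕ∞) ≤ Order.coheight x := by
      obtain ⟨π₀, hπm, hπ⟩ := Ideal.IsPrime.exists_mem_prime_of_ne_bot
        (inferInstance : (maximalIdeal (X.presheaf.stalk x)).IsPrime) (fun h => by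
          have hz' : a ∈ (⊥ : Ideal (X.presheaf.stalk x)) := h ▸ (mem_maximalIdeal a).mpr ha
          rw [Ideal.mem_bot] at hz'
          subst hz'
          exact hb (hab (dvd_zero b) dvd_rfl))
      have hsp : (Ideal.span {π₀}).IsPrime := (Ideal.span_singleton_prime hπ.ne_zero).mpr hπ
      let s : LTSeries (PrimeSpectrum (X.presheaf.stalk x)) := LTSeries.mk 2
        ![⟨⊥, Ideal.isPrime_bot⟩, ⟨_, hsp⟩, ⟨maximalIdeal _, inferInstance⟩] (by
          refine Fin.strictMono_iff_lt_succ.mpr fun i => ?_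
          fin_cases i
          · show (⊥ : Ideal (X.presheaf.stalk x)) < Ideal.span {π₀}
            exact bot_lt_iff_ne_bot.mpr (by simpa using hπ.ne_zero)
          · refine lt_of_le_of_ne ((Ideal.span_singleton_le_iff_mem _).mpr hπm) fun he => ?_
            have he' : Ideal.span {π₀} = maximalIdeal _ := congrArg PrimeSpectrum.asIdeal he
            have h1 : π₀ ∣ a := Ideal.mem_span_singleton.mp (he' ▸ (mem_maximalIdeal a).mpr ha)
            have h2 : π₀ ∣ b := Ideal.mem_span_singleton.mp (he' ▸ (mem_maximalIdeal b).mpr hb)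
            exact hπ.not_unit (hab h1 h2))
      have h3 := Order.LTSeries.length_le_krullDim s
      rw [show Order.krullDim (PrimeSpectrum (X.presheaf.stalk x)) =
        ringKrullDim (X.presheaf.stalk x) from rfl, ringKrullDim_stalk_eq_coheight] at h3
      exact WithBot.coe_le_coe.mp h3
    have h4 := WithBot.coe_le_coe.mpr ((add_le_add h2 le_rfl).trans (Order.coheight_add_one_le hlt))
    have h5 := h4.trans ((SmoothCurve.Stalk.coheight_le_topologicalKrullDim z).trans hdimX)
    norm_cast at h5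
  obtain ⟨ξ, hξ⟩ : x ∈ Set.range (f.fiberι (f x)) := by rw [f.range_fiberι]; rfl
  haveI : LocallyOfFiniteType (f.fiberToSpecResidueField (f x)) :=
    MorphismProperty.pullback_snd _ _ inferInstance
  haveI : IsLocallyNoetherian (f.fiber (f x)) :=
    LocallyOfFiniteType.isLocallyNoetherian (f.fiberToSpecResidueField (f x))
  have hfib : ∀ w : ↥(f.fiber (f x)), f (f.fiberι (f x) w) = f x := fun w =>
    (f.range_fiberι (f x)).le ⟨w, rfl⟩
  have hopen : IsOpen ({ξ} : Set ↥(f.fiber (f x))) := by
    refine AlgSpDecent.IsolatedPt.isOpen_singleton_of_extremal (fun w hw => ?_) (fun w hw => ?_)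
    · apply (f.fiberι (f x)).isEmbedding.injective
      rw [hξ]
      have h1 := hw.map (f.fiberι (f x)).continuous
      rw [hξ] at h1
      exact hgenz _ h1 (hfib w)
    · apply (f.fiberι (f x)).isEmbedding.injective
      rw [hξ]
      have h1 := hw.map (f.fiberι (f x)).continuous
      rw [hξ] at h1
      exact hspz _ h1
  haveI : IsIso (f.stalkMap (genericPoint X)) := (ConcreteCategory.isIso_iff_bijective _).mpr hbir
  obtain ⟨U, hxU, hU⟩ := Groth.Agent.S5094.result f hgen inferInstance (f x)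
    (Regular.UFD.isIntegrallyClosed _) ξ hopen
  exact hno U hxU hU

/-- A birational morphism between surfaces, regular at the relevant points, over a closed point near which it
is not an isomorphism pulls the ideal of that point back to an invertible ideal. -/
theorem isEffCartierIdeal_comap [IsLocallyNoetherian X] [IsLocallyNoetherian Y]
    (f : X ⟶ Y) [IsSeparated f] [LocallyOfFiniteType f]
    (hbir : ∃ U : Y.Opens, (U : Set Y).Nonempty ∧ IsIso (f ∣_ U))
    (hdimX : topologicalKrullDim X ≤ 2) (hdimY : topologicalKrullDim Y ≤ 2)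
    (hX : ∀ x : X, IsRegularLocalRing (X.presheaf.stalk x))
    (y : Y) (hy : IsClosed ({y} : Set Y)) [IsRegularLocalRing (Y.presheaf.stalk y)]
    (hno : ∀ U : Y.Opens, y ∈ U → ¬ IsIso (f ∣_ U)) :
    BlowUp.IsEffCartierIdeal ((Scheme.IdealSheafData.vanishingIdeal ⟨{y}, hy⟩).comap f) := by
  obtain ⟨U₀, hne, hU₀⟩ := hbir
  obtain ⟨hgen, hbij⟩ := ZMTStein.generic_of_isIso_restrict f U₀ hne hU₀
  refine ModelFibre.StalkIdeal.isEffCartierIdeal (fun x => inferInstance) fun x => ?_
  rw [stalkIdeal_comap]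
  by_cases hxy : f x = y
  · subst hxy
    rw [stalkIdeal_vanishingIdeal_self]
    refine stalkIdeal_principal_of_mem f hgen hbij hdimX hX x ?_ ?_ hno
    · rw [ringKrullDim_stalk_eq_coheight]
      exact (SmoothCurve.Stalk.coheight_le_topologicalKrullDim _).trans hdimY
    · intro hbot
      have hη := genericPoint_specializes (f x)
      have hle : primeOf (specializes_refl (f x)) ≤ primeOf hη := by
        rw [primeOf_eq_maximal (specializes_refl (f x)) rfl, hbot]
        exact bot_le
      have he : f x = genericPoint Y :=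
        ((specializes_of_primeOf_le hη (specializes_refl (f x)) hle).antisymm hη).eq
      refine hno U₀ ?_ hU₀
      rw [he]
      exact ((genericPoint_spec Y).mem_open_set_iff U₀.2).2 (by simpa using hne)
  · refine ⟨1, one_ne_zero, ?_⟩
    have : stalkIdeal (Scheme.IdealSheafData.vanishingIdeal ⟨{y}, hy⟩) (f x) = ⊤ := by
      rw [ModelFibre.StalkIdeal.stalkIdeal_eq_top_iff]
      intro h
      rw [← SetLike.mem_coe, Scheme.IdealSheafData.coe_support_vanishingIdeal] at h
      exact hxy h
    rw [this, Ideal.map_top, Ideal.span_singleton_one]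

end Groth.Agent.Lib.SurfFactor85.Main
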