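import Mathlib
import Groth.Prelude.Def_BlowUp2
import Groth.Agent.Lib.SurfFactor85.Main
import Groth.Agent.Lib.Flat55.ContractionUniversal
import Groth.Agent.Lib.Variety.ExcPurity
import Groth.Agent.Lib.PointBlow85.Main
import Groth.Agent.S2348

/-!
# A birational morphism of surfaces with one irreducible exceptional curve is a point blow-up
-/

set_option autoImplicit false
universe u

open CategoryTheory CategoryTheory.Limits AlgebraicGeometry TopologicalSpace IsLocalRing

namespace Groth.Agent.Lib.SurfFactor85.Iso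

open Groth.Agent.Lib.Ideal.Prime Groth.Agent.Lib.CartierDescent

variable {X Y : Scheme.{u}}

theorem isIso_stalkMap_of_restrict (f : X ⟶ Y) (U : Y.Opens) [IsIso (f ∣_ U)] (x : X) (hx : f x ∈ U) :
    IsIso (f.stalkMap x) := by
  have hx' : x ∈ f ⁻¹ᵁ U := hx
  obtain ⟨p, rfl⟩ : ∃ p : ↥((f ⁻¹ᵁ U : X.Opens) : Scheme.{u}), (f ⁻¹ᵁ U).ι p = x := ⟨⟨x, hx'⟩, rfl⟩
  have h3 : IsIso (((f ⁻¹ᵁ U).ι ≫ f).stalkMap p) := by
    have : ∀ k : ((f ⁻¹ᵁ U : X.Opens) : Scheme.{u}) ⟶ Y, (f ∣_ U) ≫ U.ι = k →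
        IsIso (k.stalkMap p) := by
      rintro k rfl; infer_instance
    exact this _ (morphismRestrict_ι f U)
  rw [Scheme.Hom.stalkMap_comp] at h3
  exact @IsIso.of_isIso_comp_right _ _ _ _ _ (f.stalkMap ((f ⁻¹ᵁ U).ι p))
    ((f ⁻¹ᵁ U).ι.stalkMap p) inferInstance h3

section

variable [IsIntegral X] [IsIntegral Y]

theorem bijective_stalkMap_of_dim_le_one (f : X ⟶ Y) (hgen : f (genericPoint X) = genericPoint Y)
    (hbir : Function.Bijective (f.stalkMap (genericPoint X))) (x : X)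
    [IsRegularLocalRing (Y.presheaf.stalk (f x))] (hd : ringKrullDim (Y.presheaf.stalk (f x)) ≤ 1) :
    Function.Bijective (f.stalkMap x) := by
  refine ⟨Main.injective_stalkMap f hgen hbir x, fun s => ?_⟩
  have hp : (maximalIdeal (Y.presheaf.stalk (f x))).IsPrincipal := by
    obtain ⟨T, hT, hTm⟩ := Submodule.FG.exists_span_set_encard_eq_spanFinrank
      (IsNoetherian.noetherian (maximalIdeal (Y.presheaf.stalk (f x))))
    have hle : T.encard ≤ 1 := by
      rw [hT]
      have h2 : ((maximalIdeal (Y.presheaf.stalk (f x))).spanFinrank : WithBot ℕ∞) ≤ 1 :=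
        (IsRegularLocalRing.spanFinrank_maximalIdeal (R := Y.presheaf.stalk (f x))).le.trans hd
      exact_mod_cast h2
    rcases Set.encard_le_one_iff_eq.mp hle with rfl | ⟨a, rfl⟩
    · exact ⟨⟨0, by rw [← hTm]; simp⟩⟩
    · exact ⟨⟨a, hTm.symm⟩⟩
  haveI : ValuationRing (Y.presheaf.stalk (f x)) :=
    ((tfae_of_isNoetherianRing_of_isLocalRing_of_isDomain (Y.presheaf.stalk (f x))).out 4 1).mp hp
  obtain ⟨r₁, r₂, hr₂, hr⟩ := Main.exists_fraction f hgen hbir x s
  have hinj := Main.injective_stalkMap f hgen hbir x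
  have hr₂' : f.stalkMap x r₂ ≠ 0 := fun h => hr₂ (hinj (h.trans (map_zero _).symm))
  obtain ⟨c, hc⟩ := ValuationRing.cond r₁ r₂
  rcases hc with hc | hc
  · -- `r₁ * c = r₂`
    have h1 : f.stalkMap x c * s = 1 := by
      have hr₁ : f.stalkMap x r₁ ≠ 0 := fun h => hr₂' (by rw [← hc, map_mul, h, zero_mul])
      refine mul_left_cancel₀ hr₁ ?_
      rw [mul_one, ← mul_assoc, ← map_mul, hc, hr]
    have hcu : IsUnit c := isUnit_of_map_unit (f.stalkMap x).hom c (IsUnit.of_mul_eq_one _ h1)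
    obtain ⟨e, rfl⟩ := hcu
    refine ⟨(↑e⁻¹ : Y.presheaf.stalk (f x)), ?_⟩
    refine mul_left_cancel₀ ((e.isUnit.map (f.stalkMap x).hom).ne_zero) ?_
    rw [← map_mul, Units.mul_inv, map_one]
    exact h1.symm
  · refine ⟨c, mul_left_cancel₀ hr₂' ?_⟩
    rw [hr, ← map_mul, hc]

theorem ringKrullDim_stalk_eq_two (f : X ⟶ Y) [IsSeparated f] [LocallyOfFiniteType f]
    (hbir : ∃ V : Y.Opens, (V : Set Y).Nonempty ∧ IsIso (f ∣_ V)) (hdimY : topologicalKrullDim Y ≤ 2)
    (x : X) [IsRegularLocalRing (Y.presheaf.stalk (f x))]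
    (hno : ∀ U : Y.Opens, f x ∈ U → ¬ IsIso (f ∣_ U)) :
    ringKrullDim (Y.presheaf.stalk (f x)) = 2 := by
  obtain ⟨V, hV, hV'⟩ := hbir
  obtain ⟨hgen, hbij⟩ := ZMTStein.generic_of_isIso_restrict f V hV hV'
  have hle : ringKrullDim (Y.presheaf.stalk (f x)) ≤ 2 := by
    rw [ringKrullDim_stalk_eq_coheight]
    exact (SmoothCurve.Stalk.coheight_le_topologicalKrullDim _).trans hdimY
  refine le_antisymm hle ?_
  by_contra hlt
  have h1 : ringKrullDim (Y.presheaf.stalk (f x)) ≤ 1 := by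
    rw [ringKrullDim_stalk_eq_coheight] at hlt ⊢
    have h2 : ¬ ((2 : ℕ∞) : WithBot ℕ∞) ≤ (Order.coheight (f x) : ℕ∞) := hlt
    rw [WithBot.coe_le_coe] at h2
    exact WithBot.coe_le_coe.mpr (Order.le_of_lt_add_one (not_le.mp h2))
  haveI : IsIso (f.stalkMap x) := (ConcreteCategory.isIso_iff_bijective _).mpr
    (bijective_stalkMap_of_dim_le_one f hgen hbij x h1)
  obtain ⟨U, hxU, hU⟩ := Variety.ExcPurity.exists_isIso_of_isIso_stalkMap f ⟨V, hV, hV'⟩ x
  exact hno U hxU hU

/-- Three points in a chain below a non-generic point. -/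
theorem not_chain (hdim : topologicalKrullDim X ≤ 2) {a b c : X} (hab : a ⤳ b) (hbc : b ⤳ c)
    (ha : a ≠ genericPoint X) (hne : a ≠ b) (hne' : b ≠ c) : False := by
  have lt_of : ∀ {p q : X}, p ⤳ q → p ≠ q → q < p := fun {p q} h hne =>
    lt_of_le_not_ge h fun h' => hne (h.antisymm h').eq
  have h1 := Order.coheight_add_one_le (lt_of (genericPoint_specializes a) (Ne.symm ha))
  have h2 := Order.coheight_add_one_le (lt_of hab hne)
  have h3 := Order.coheight_add_one_le (lt_of hbc hne')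
  have h4 : (3 : ℕ∞) ≤ Order.coheight c :=
    calc (3 : ℕ∞) = 0 + 1 + 1 + 1 := by norm_num
      _ ≤ Order.coheight (genericPoint X) + 1 + 1 + 1 := by gcongr; exact zero_le
      _ ≤ Order.coheight a + 1 + 1 := by gcongr
      _ ≤ Order.coheight b + 1 := by gcongr
      _ ≤ Order.coheight c := h3
  have h5 := (WithBot.coe_le_coe.mpr h4).trans
    ((SmoothCurve.Stalk.coheight_le_topologicalKrullDim c).trans hdim)
  norm_cast at h5

end

/-- The local rings of a point blow-up over the point are regular. -/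
theorem isRegularLocalRing_blowUp_stalk [IsLocallyNoetherian Y] {Y' : Scheme.{u}} (π : Y' ⟶ Y) (y : Y)
    (hy : IsClosed ({y} : Set Y)) [IsRegularLocalRing (Y.presheaf.stalk y)]
    (hdim : ringKrullDim (Y.presheaf.stalk y) = 2)
    (hπ : BlowUp.IsBlowUp π (Scheme.IdealSheafData.vanishingIdeal ⟨{y}, hy⟩)) (y' : Y') (hy' : π y' = y) :
    IsRegularLocalRing (Y'.presheaf.stalk y') := by
  set j := Y.fromSpecStalk y
  haveI : Flat j := Unram.BaseChangeNhd.flat_fromSpecStalk y
  have hb := Ideal.BlowUp.isBlowUp_flat_baseChange j hπ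
  rw [Flat55.ContractionUniversal.comap_vanishingIdeal_stalk] at hb
  have hjy : j (IsLocalRing.closedPoint (Y.presheaf.stalk y)) = y := Scheme.fromSpecStalk_closedPoint
  obtain ⟨w, hw⟩ : y' ∈ Set.range (pullback.snd j π) := by
    rw [Scheme.Pullback.range_snd]
    exact ⟨_, hjy.trans hy'.symm⟩
  subst hw
  haveI := PointBlow85.isRegularLocalRing_stalk hdim hb w
  have hbij : Function.Bijective ((pullback.snd j π).stalkMap w) := by
    refine ⟨?_, (pullback.snd j π).stalkMap_surjective w⟩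
    algebraize [((pullback.snd j π).stalkMap w).hom]
    have : Module.FaithfullyFlat (Y'.presheaf.stalk (pullback.snd j π w))
        ((pullback j π).presheaf.stalk w) :=
      @Module.FaithfullyFlat.of_flat_of_isLocalHom _ _ _ _ _ _ _
        (Flat.stalkMap (pullback.snd j π) w) ((pullback.snd j π).toLRSHom.prop w)
    exact ‹RingHom.FaithfullyFlat _›.injective
  exact IsRegularLocalRing.of_ringEquiv (RingEquiv.ofBijective ((pullback.snd j π).stalkMap w).hom hbij).symm

set_option backward.isDefEq.respectTransparency.types false in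
/-- An isolated point of a fibre, from the absence of chains in the fibre. -/
theorem isOpen_singleton_fiber {W : Scheme.{u}} (g : X ⟶ W) [LocallyOfFiniteType g] (w : W)
    (hnc : ∀ a b : X, g a = w → g b = w → a ⤳ b → a = b) (ξ : ↥(g.fiber w)) :
    IsOpen ({ξ} : Set ↥(g.fiber w)) := by
  haveI : LocallyOfFiniteType (g.fiberToSpecResidueField w) :=
    MorphismProperty.pullback_snd _ _ inferInstance
  haveI : IsLocallyNoetherian (g.fiber w) :=
    LocallyOfFiniteType.isLocallyNoetherian (g.fiberToSpecResidueField w)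
  have hfib : ∀ p : ↥(g.fiber w), g (g.fiberι w p) = w := fun p => (g.range_fiberι w).le ⟨p, rfl⟩
  refine AlgSpDecent.IsolatedPt.isOpen_singleton_of_extremal (fun p hp => ?_) (fun p hp => ?_)
  · exact (g.fiberι w).isEmbedding.injective
      (hnc _ _ (hfib p) (hfib ξ) (hp.map (g.fiberι w).continuous))
  · exact (g.fiberι w).isEmbedding.injective
      (hnc _ _ (hfib ξ) (hfib p) (hp.map (g.fiberι w).continuous)).symm

set_option backward.isDefEq.respectTransparency.types false in
theorem isBlowUp_of_irreducible_fibre [IsIntegral X] [IsIntegral Y] [IsNoetherian Y]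
    (f : X ⟶ Y) [IsProper f] (hdimX : topologicalKrullDim X ≤ 2) (hdimY : topologicalKrullDim Y ≤ 2)
    (hX : ∀ x : X, IsRegularLocalRing (X.presheaf.stalk x)) (y : Y) (hy : IsClosed ({y} : Set Y))
    [IsRegularLocalRing (Y.presheaf.stalk y)]
    (hiso : IsIso (f ∣_ (⟨{y}ᶜ, hy.isOpen_compl⟩ : Y.Opens)))
    (hirr : IsPreirreducible (f ⁻¹' {y}))
    (hyη : y ≠ genericPoint Y) (hbig : ∃ x x' : X, x ≠ x' ∧ f x = y ∧ f x' = y) :
    BlowUp.IsBlowUp f (Scheme.IdealSheafData.vanishingIdeal ⟨{y}, hy⟩) := by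
  classical
  set J := Scheme.IdealSheafData.vanishingIdeal (⟨{y}, hy⟩ : TopologicalSpace.Closeds Y) with hJ
  set Ω : Y.Opens := ⟨{y}ᶜ, hy.isOpen_compl⟩
  haveI : IsLocallyNoetherian X := LocallyOfFiniteType.isLocallyNoetherian f
  obtain ⟨x₀, x₁, hne01, hx₀, hx₁⟩ := hbig
  have hno : ∀ U : Y.Opens, y ∈ U → ¬ IsIso (f ∣_ U) := by
    intro U hyU hU
    apply hne01
    have h : ∀ w, U.ι ((f ∣_ U) w) = f w.1 := fun w =>
      congrArg (fun g : ((f ⁻¹ᵁ U : X.Opens) : Scheme.{u}) ⟶ Y => g w) (morphismRestrict_ι f U)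
    have hm₀ : x₀ ∈ f ⁻¹ᵁ U := show f x₀ ∈ U from hx₀.symm ▸ hyU
    have hm₁ : x₁ ∈ f ⁻¹ᵁ U := show f x₁ ∈ U from hx₁.symm ▸ hyU
    haveI := hU
    exact congrArg Subtype.val ((f ∣_ U).homeomorph.injective (a₁ := ⟨x₀, hm₀⟩) (a₂ := ⟨x₁, hm₁⟩)
      (U.ι.isOpenEmbedding.injective ((h ⟨x₀, hm₀⟩).trans ((hx₀.trans hx₁.symm).trans (h ⟨x₁, hm₁⟩).symm))))
  have hΩne : (Ω : Set Y).Nonempty := ⟨genericPoint Y, Ne.symm hyη⟩
  have hbir : ∃ V : Y.Opens, (V : Set Y).Nonempty ∧ IsIso (f ∣_ V) := ⟨Ω, hΩne, hiso⟩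
  have hdim : ringKrullDim (Y.presheaf.stalk y) = 2 := by
    subst hx₀
    exact ringKrullDim_stalk_eq_two f hbir hdimY x₀ hno
  obtain ⟨Y', π, hπ⟩ := BlowUpExists.exists_isBlowUp Y J
  have hfg : ∀ U, (J.ideal U).FG := fun U => by
    haveI : IsNoetherianRing Γ(Y, U.1) := IsLocallyNoetherian.component_noetherian U
    exact IsNoetherian.noetherian _
  haveI : IsProper π := BlowUpExists.isProper_of_isBlowUp hπ hfg
  haveI : IsLocallyNoetherian Y' := LocallyOfFiniteType.isLocallyNoetherian π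
  have hsupp : (J.support : Set Y) = {y} := by
    rw [hJ, Scheme.IdealSheafData.coe_support_vanishingIdeal]; rfl
  have hJne : J ≠ ⊥ := by
    intro h
    have : (J.support : Set Y) = Set.univ := by rw [h]; simp
    rw [hsupp] at this
    exact hyη (Set.mem_singleton_iff.mp (this.ge (Set.mem_univ (genericPoint Y)))).symm
  obtain ⟨hY'i, -, -⟩ := S2348.result J hJne π hπ
  haveI := hY'i
  have hΩ : J.support.compl = Ω := TopologicalSpace.Opens.ext (by
    show (J.support : Set Y)ᶜ = ({y} : Set Y)ᶜ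
    rw [hsupp])
  haveI hπΩ : IsIso (π ∣_ Ω) := hΩ ▸ Ideal.BlowUp.isIso_off_center hπ
  obtain ⟨hπgen, -⟩ := ZMTStein.generic_of_isIso_restrict π Ω hΩne hπΩ
  obtain ⟨g, hg, -⟩ := hπ.2 X f (Main.isEffCartierIdeal_comap f hbir hdimX hdimY hX y hy hno)
  have hgπ : ∀ x, π (g x) = f x := fun x => by rw [← Scheme.Hom.comp_apply, hg]
  haveI : IsProper (g ≫ π) := hg.symm ▸ inferInstance
  haveI : IsProper g := IsProper.of_comp g π
  have hgU : IsIso (g ∣_ (π ⁻¹ᵁ Ω)) := by
    haveI := hiso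
    have h := morphismRestrict_comp g π Ω
    subst hg
    haveI : IsIso (g ∣_ (π ⁻¹ᵁ Ω) ≫ π ∣_ Ω) := by rw [← h]; exact hiso
    exact IsIso.of_isIso_comp_right (g ∣_ (π ⁻¹ᵁ Ω)) (π ∣_ Ω)
  obtain ⟨hggen, hgbij⟩ := ZMTStein.generic_of_isIso_restrict g (π ⁻¹ᵁ Ω)
    ⟨genericPoint Y', show π (genericPoint Y') ∈ Ω from hπgen.symm ▸ Ne.symm hyη⟩ hgU
  haveI : Surjective g := ZMTStein.surjective_of_generic g hggen
  -- the generic point of the fibre
  obtain ⟨ξ, hξ⟩ := QuasiSober.sober
    (⟨⟨x₀, hx₀⟩, hirr⟩ : IsIrreducible (f ⁻¹' {y})) (hy.preimage f.continuous)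
  have hξy : f ξ = y := hξ.mem
  have hξη : ξ ≠ genericPoint X := by
    rintro rfl
    obtain ⟨hfgen, -⟩ := ZMTStein.generic_of_isIso_restrict f Ω hΩne hiso
    exact hyη (hξy.symm.trans hfgen)
  have hup : ∀ a b : X, f a = y → a ⤳ b → a ≠ b → a = ξ := by
    intro a b ha hab hne
    by_contra h
    exact not_chain hdimX (hξ.specializes ha) hab hξη (Ne.symm h) hne
  have hclosed : ∀ a b : X, f a = y → a ⤳ b → a ≠ b → IsClosed ({b} : Set X) := by
    intro a b ha hab hne
    rw [← closure_eq_iff_isClosed]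
    refine Set.Subset.antisymm (fun c hc => ?_) subset_closure
    by_contra hcb
    have haξ := hup a b ha hab hne
    subst haξ
    exact not_chain hdimX hab (specializes_iff_mem_closure.mpr hc) hξη hne (Ne.symm hcb)
  -- the image of the generic point of the fibre is not closed
  have hη' : ¬ IsClosed ({g ξ} : Set Y') := by
    intro hc
    have hall : ∀ p : Y', π p = y → p = g ξ := by
      intro p hp
      obtain ⟨x, rfl⟩ := g.surjective p
      rw [hgπ] at hp
      exact Set.mem_singleton_iff.mp (((hξ.specializes hp).map g.continuous).mem_closed hc rfl)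
    have hπgenbij := (ZMTStein.generic_of_isIso_restrict π Ω hΩne hπΩ).2
    haveI : IsIso (π.stalkMap (genericPoint Y')) := (ConcreteCategory.isIso_iff_bijective _).mpr hπgenbij
    obtain ⟨p, hp⟩ : g ξ ∈ Set.range (π.fiberι y) := by
      rw [π.range_fiberι]; exact (hgπ ξ).trans hξy
    obtain ⟨U, hyU, hU⟩ := Groth.Agent.S5094.result π hπgen inferInstance y
      (Regular.UFD.isIntegrallyClosed _) p
      (isOpen_singleton_fiber π y (fun a b ha hb _ => (hall a ha).trans (hall b hb).symm) p)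
    haveI := hU
    have hgy : π (g ξ) = y := (hgπ ξ).trans hξy
    haveI := isIso_stalkMap_of_restrict π U (g ξ) (hgy ▸ hyU)
    obtain ⟨q, -, hq⟩ := stalkIdeal_eq_span hπ.1 (g ξ)
    rw [stalkIdeal_comap, hJ] at hq
    clear_value J
    subst hgy
    rw [Main.stalkIdeal_vanishingIdeal_self] at hq
    let e := RingEquiv.ofBijective (π.stalkMap (g ξ)).hom (ConcreteCategory.bijective_of_isIso _)
    have hm : maximalIdeal (Y.presheaf.stalk (π (g ξ))) = Ideal.span {e.symm q} := by
      have h1 := congrArg (Ideal.map e.symm.toRingHom) hq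
      rw [Ideal.map_map, Ideal.map_span, Set.image_singleton,
        show e.symm.toRingHom.comp (π.stalkMap (g ξ)).hom = RingHom.id _ from
          RingHom.ext fun r => e.symm_apply_apply r, Ideal.map_id] at h1
      exact h1
    have h2 : (maximalIdeal (Y.presheaf.stalk (π (g ξ)))).spanFinrank ≤ 1 := by
      rw [hm]
      exact (Submodule.spanFinrank_span_le_ncard_of_finite (Set.finite_singleton _)).trans (by simp)
    have h3 := IsRegularLocalRing.spanFinrank_maximalIdeal (R := Y.presheaf.stalk (π (g ξ)))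
    rw [hdim] at h3
    have h4 : (maximalIdeal (Y.presheaf.stalk (π (g ξ)))).spanFinrank = 2 := by exact_mod_cast h3
    omega
  -- no chains in the fibres of `g` over the exceptional divisor
  have hnc : ∀ p : Y', π p = y → ∀ a b : X, g a = p → g b = p → a ⤳ b → a = b := by
    intro p hp a b ha hb hab
    by_contra hne
    have hay : f a = y := by rw [← hgπ, ha, hp]
    have haξ := hup a b hay hab hne
    have hcl := g.isClosedMap _ (hclosed a b hay hab hne)
    rw [Set.image_singleton, hb, ← ha, haξ] at hcl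
    exact hη' hcl
  -- so `g` is an isomorphism
  haveI : IsIso g := by
    have hloc : ∀ p : Y', ∃ U : Y'.Opens, p ∈ U ∧ IsIso (g ∣_ U) := by
      intro p
      by_cases hp : π p = y
      · haveI := isRegularLocalRing_blowUp_stalk π y hy hdim hπ p hp
        haveI : IsIso (g.stalkMap (genericPoint X)) := (ConcreteCategory.isIso_iff_bijective _).mpr hgbij
        obtain ⟨x, hx⟩ := g.surjective p
        obtain ⟨q, -⟩ : x ∈ Set.range (g.fiberι p) := by rw [g.range_fiberι]; exact hx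
        exact Groth.Agent.S5094.result g hggen inferInstance p (Regular.UFD.isIntegrallyClosed _) q
          (isOpen_singleton_fiber g p (hnc p hp) q)
      · exact ⟨π ⁻¹ᵁ Ω, hp, hgU⟩
    choose U hpU hU using hloc
    have htop : iSup U = ⊤ := top_le_iff.mp fun p _ => TopologicalSpace.Opens.mem_iSup.mpr ⟨p, hpU p⟩
    exact (IsZariskiLocalAtTarget.iff_of_iSup_eq_top (P := MorphismProperty.isomorphisms Scheme) U htop).mpr hU
  rw [← hg]
  exact Flat55.ContractionUniversal.isBlowUp_iso_comp hπ g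

end Groth.Agent.Lib.SurfFactor85.Iso
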