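import Groth.Agent.Lib.BlowUpProj
import Groth.Agent.Lib.ProjMor.Embed
import Groth.Agent.Lib.ProjSpace.TwistBC
import Groth.Agent.Lib.ModelFibre.IdealPull

/-!
# Blow-ups of affine schemes embed into projective spaces with exceptional ideal `O(1)`
-/

set_option autoImplicit false
set_option linter.style.haveILetI false

noncomputable section

universe u

open CategoryTheory CategoryTheory.Limits AlgebraicGeometry Opposite TopologicalSpace

namespace Groth.Agent.Lib.SurfFactor85.Plane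

open Groth.Agent.Lib
open TensorMod TensorMod.Basic TensorMod.Free TensorMod.Dual TensorMod.Gen TensorMod.HomGlue TensorMod.Pullback
  Ample.GenLocus ProjMor ProjMor.Sec ProjMor.Frame ProjMor.Char ProjMor.Rep BlowUpExists BlowUpProj H22.BlowUpAmple

/-- The blow-up of `Spec A` in an ideal with `n + 1` generators is closed in `ℙⁿ_A`, `O(1)` pulling back to
the exceptional ideal. -/
theorem exists_closedImmersion {A : Type u} [CommRing A] (I : (Spec (CommRingCat.of A)).IdealSheafData)
    {n : ℕ} (s : Fin (n + 1) → Γ(Spec (CommRingCat.of A), ⊤))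
    (hs : Ideal.span (Set.range s) = I.ideal ⟨⊤, isAffineOpen_top _⟩) :
    ∃ r : bl I ⟶ CohB1.ProjSpace n A, IsClosedImmersion r ∧ r ≫ CohB1.ProjSpace.toSpec n A = blProj I ∧
      Nonempty ((Scheme.Modules.pullback r).obj (Twist.twistProjSpace n A 1) ≅ excMod I) := by
  let U : (Spec (CommRingCat.of A)).affineOpens := ⟨⊤, isAffineOpen_top _⟩
  let ix : Fin (n + 1) → Idx I := fun k => ⟨U, s k, hs ▸ Ideal.subset_span ⟨k, rfl⟩⟩
  have hL : PicF.IsInvertible (excMod I) := ClSub.Cartier.isInvertible_idealMod (localData I).Q_proj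
  choose m hm using fun k => H22.BlowUpAmple.exists_sec (ix k)
  let t : Fin (n + 1) → ProjUP.Γm (excMod I) := m
  have hloc : ∀ k, locus (t k) = Rng (ix k) := fun k => by
    refine le_antisymm (fun x hx => ?_) (fun x hx => ?_)
    · exact H22.BlowUpAmple.mem_range_incl_of_isGen (ix k) (hm k) (U := locus (t k)) le_top
        (isGen_locus (t k)) hx
    · obtain ⟨W, hW, hxW, hg⟩ := H22.BlowUpAmple.isGen_of_range_incl (ix k) (hm k) hx
      exact le_locus hg hxW
  have hcov : ∀ x, ∃ k, x ∈ locus (t k) := fun x => by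
    obtain ⟨_, ⟨k, rfl⟩, hx⟩ := exists_mem_range_incl (I := I) x (U := U) trivial hs
    exact ⟨k, (hloc k).ge hx⟩
  obtain ⟨r, hr, τ, hτ⟩ := Poly.exists_map n A (blProj I) (excMod I) hL t
    (Embed.generatedBy_of_locus t hcov)
  refine ⟨r, ?_, hr, ⟨τ⟩⟩
  let 𝒜 := CohB1.polyGrading n A
  let el : Fin (n + 1) → 𝒜 1 := fun i => ⟨MvPolynomial.X i, MvPolynomial.isHomogeneous_X A i⟩
  have hcv := Main.cover (Poly.lin_mem n A) (Poly.adjoin_lin n A)
  have hinv : PicF.IsInvertible (Twist.twist 𝒜 1) :=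
    Groth.Agent.Lib.ProjTilde.Invertible.twist_isInvertible_of_cover (fun x => by
      obtain ⟨c, hc⟩ := hcv x
      exact ⟨c, c.2, hc⟩) 1
  let D : Fin (n + 1) → (CohB1.ProjSpace n A).Opens := fun i =>
    Proj.basicOpen 𝒜 (el i : MvPolynomial (Fin (n + 1)) A)
  have hpre : ∀ i, locus (t i) = r ⁻¹ᵁ D i := fun i => by
    rw [show D i = _ from (locus_g hcv (el i)).symm]
    exact (congrArg locus (hτ i)).symm.trans ((locus_iso τ _).trans (locus_pullback hinv r _))
  rw [IsZariskiLocalAtTarget.iff_of_iSup_eq_top (P := @IsClosedImmersion) D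
    (ProjSpace.Basic.iSup_basicOpen_X_eq_top n A)]
  intro i
  haveI : IsAffine (D i : Scheme.{u}) := Proj.isAffineOpen_basicOpen 𝒜 _ (el i).2 one_pos
  haveI : IsAffine (r ⁻¹ᵁ D i : Scheme.{u}) := by
    rw [← hpre i, hloc i]; exact isAffineOpen_opensRange (incl (ix i))
  refine IsClosedImmersion.of_surjective_of_isAffine _ ?_
  suffices h : Function.Surjective (r.appLE (D i) (Rng (ix i)) ((hloc i).symm.trans (hpre i)).le) by
    have e : (r ∣_ D i).appTop = (D i).topIso.hom ≫ r.appLE (D i) (r ⁻¹ᵁ D i) le_rfl ≫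
        (r ⁻¹ᵁ D i).topIso.inv := by
      rw [← Scheme.Hom.resLE_eq_morphismRestrict]
      exact Scheme.Hom.resLE_app_top _ _
    rw [e]
    refine ((ConcreteCategory.bijective_of_isIso (r ⁻¹ᵁ D i).topIso.inv).2.comp
      (Function.Surjective.comp ?_ (ConcreteCategory.bijective_of_isIso (D i).topIso.hom).2))
    have key : ∀ (V : (bl I).Opens) (hV : V = Rng (ix i)) (hle : V ≤ r ⁻¹ᵁ D i),
        Function.Surjective (r.appLE (D i) V hle) := by
      rintro V rfl hle
      exact h
    exact key _ ((hpre i).symm.trans (hloc i)) le_rfl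
  intro z
  have hz : z ∈ (⊤ : Subring Γ(bl I, Rng (ix i))) := Subring.mem_top z
  rw [← closure_rng (ix i) s hs] at hz
  refine (Subring.closure_le (t := (r.appLE (D i) (Rng (ix i)) ((hloc i).symm.trans (hpre i)).le).hom.range)).2 ?_ hz
  rintro a (⟨y, rfl⟩ | ⟨k, rfl⟩)
  · refine ⟨(CohB1.ProjSpace.toSpec n A).appLE ⊤ (D i) (show D i ≤ CohB1.ProjSpace.toSpec n A ⁻¹ᵁ ⊤ from le_top) y, ?_⟩
    rw [← ConcreteCategory.comp_apply, Scheme.Hom.appLE_comp_appLE]
    simp only [hr]
    rfl
  · set c := dv (ix i) le_rfl (rng_le (ix i)) (hs ▸ Ideal.subset_span ⟨k, rfl⟩ : s k ∈ I.ideal U) with hc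
    have h1 : gl (t k) (Rng (ix i)) = c • gl (t i) (Rng (ix i)) := by
      refine ClSub.Sections.idealModι_app_injective _ _ ?_
      rw [Scheme.Modules.Hom.app_smul]
      have e : ∀ l, (_root_.ClSub.idealModι (I.comap (blProj I))).app (Rng (ix i)) (gl (t l) (Rng (ix i))) =
          pb ((rng_le (ix i)).trans le_top : Rng (ix i) ≤ blProj I ⁻¹ᵁ (⊤ : (Spec (CommRingCat.of A)).Opens)) (s l) :=
        fun l => by
          show (_root_.ClSub.idealModι (I.comap (blProj I))).app _ (rs _ le_top (m l)) = _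
          erw [ClSub.Basis.map_app]
          erw [hm l]
          exact appLE_res (blProj I) le_top le_rfl (s l)
      rw [e, e]
      exact (dv_mul (ix i) le_rfl (rng_le (ix i)) _).symm
    have hcong : ∀ (V : (bl I).Opens) (hV : V ≤ r ⁻¹ᵁ D i), V = locus (t i) →
        ∀ c : Γ(bl I, V), gl (t k) V = c • gl (t i) V →
          c ∈ (r.appLE (D i) V hV).hom.range := by
      rintro V hV rfl c hc
      refine ⟨fr 𝒜 (el i) (el k), ?_⟩
      refine (isGen_locus (t i) _ le_rfl).1 ?_
      have h2 := Embed.ratio_of_iso (a := el i) (b := el k) τ (hτ i) (hτ k) (U := locus (t i)) hV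
      show r.appLE _ _ hV (fr 𝒜 (el i) (el k)) • rs _ le_rfl (gl (t i) (locus (t i))) = c • rs _ le_rfl (gl (t i) (locus (t i)))
      rw [show rs _ le_rfl (gl (t i) (locus (t i))) = gl (t i) (locus (t i)) from rs_gl _ _]
      exact h2.symm.trans hc
    exact hcong _ _ (hloc i).symm c h1

/-- The same for any blow-up. -/
theorem exists_closedImmersion' {A : Type u} [CommRing A] (I : (Spec (CommRingCat.of A)).IdealSheafData)
    {n : ℕ} (s : Fin (n + 1) → Γ(Spec (CommRingCat.of A), ⊤))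
    (hs : Ideal.span (Set.range s) = I.ideal ⟨⊤, isAffineOpen_top _⟩)
    {X : Scheme.{u}} (b : X ⟶ Spec (CommRingCat.of A)) (hb : BlowUp.IsBlowUp b I) :
    ∃ r : X ⟶ CohB1.ProjSpace n A, IsClosedImmersion r ∧ r ≫ CohB1.ProjSpace.toSpec n A = b ∧
      Nonempty ((Scheme.Modules.pullback r).obj (Twist.twistProjSpace n A 1) ≅
        _root_.ClSub.idealMod (BlowUp.exceptional b I)) := by
  obtain ⟨r, hr, hrb, ⟨τ⟩⟩ := exists_closedImmersion I s hs
  obtain ⟨k, hk, hkb⟩ := H22.BlowUpComp.exists_iso hb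
  haveI := hr
  subst hkb
  refine ⟨k ≫ r, inferInstance, by rw [Category.assoc, hrb], ?_⟩
  obtain ⟨e⟩ := ModelFibre.IdealPull.nonempty_pullback_idealMod k
    (I := I.comap (blProj I)) (localData I).Q_proj fun U g hg _ x hx => by
      have h1 := Lib.Ideal.EffCartier.germ_mem_nonZeroDivisors U.2 hg (k x) hx
      rw [← Scheme.Hom.germ_stalkMap_apply k U.1 x hx g]
      exact Lib.Ideal.EffCartier.mem_nonZeroDivisors_of_flat
        (RingHom.Flat.of_bijective (ConcreteCategory.bijective_of_isIso (k.stalkMap x))) h1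
  refine ⟨(Scheme.Modules.pullbackComp k r).symm.app _ ≪≫ (Scheme.Modules.pullback k).mapIso τ ≪≫ e ≪≫ eqToIso ?_⟩
  show _root_.ClSub.idealMod ((I.comap (blProj I)).comap k) = _root_.ClSub.idealMod (I.comap (k ≫ blProj I))
  rw [Scheme.IdealSheafData.comap_comp]

end Groth.Agent.Lib.SurfFactor85.Plane
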