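import Mathlib
import Groth.Prelude.Def_ModelsG
import Groth.Agent.Lib.SurfFactor85.Iso
import Groth.Agent.Lib.SurfFactor85.Plane
import Groth.Agent.Lib.ProjSpace.Dim

/-!
# The exceptional divisor of the blow-up of a closed point of a regular surface
-/

set_option autoImplicit false
universe u

open CategoryTheory CategoryTheory.Limits AlgebraicGeometry TopologicalSpace IsLocalRing

namespace Groth.Agent.Lib.SurfFactor85.Exc

open Groth.Agent.Lib Groth.Agent.Lib.Ideal.Prime Groth.Agent.Lib.CartierDescent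

/-- The fibre of a point blow-up is not a single point. -/
theorem fibre_not_subsingleton {Y Y' : Scheme.{u}} [IsIntegral Y] [IsLocallyNoetherian Y] [IsIntegral Y']
    (π : Y' ⟶ Y) [IsProper π] (y : Y) (hy : IsClosed ({y} : Set Y)) (hyη : y ≠ genericPoint Y)
    [IsRegularLocalRing (Y.presheaf.stalk y)] (hdim : ringKrullDim (Y.presheaf.stalk y) = 2)
    (hπ : BlowUp.IsBlowUp π (Scheme.IdealSheafData.vanishingIdeal ⟨{y}, hy⟩))
    (hsub : ∀ p q : Y', π p = y → π q = y → p = q) : False := by
  set J := Scheme.IdealSheafData.vanishingIdeal (⟨{y}, hy⟩ : TopologicalSpace.Closeds Y) with hJ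
  set Ω : Y.Opens := ⟨{y}ᶜ, hy.isOpen_compl⟩
  have hΩ : J.support.compl = Ω := TopologicalSpace.Opens.ext (by
    show (J.support : Set Y)ᶜ = ({y} : Set Y)ᶜ
    rw [hJ, Scheme.IdealSheafData.coe_support_vanishingIdeal]; rfl)
  haveI hπΩ : IsIso (π ∣_ Ω) := hΩ ▸ Ideal.BlowUp.isIso_off_center hπ
  obtain ⟨hπgen, hπbij⟩ := ZMTStein.generic_of_isIso_restrict π Ω ⟨genericPoint Y, Ne.symm hyη⟩ hπΩ
  haveI : IsIso (π.stalkMap (genericPoint Y')) := (ConcreteCategory.isIso_iff_bijective _).mpr hπbij
  haveI : Surjective π := ZMTStein.surjective_of_generic π hπgen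
  obtain ⟨z, hz⟩ := π.surjective y
  obtain ⟨p, -⟩ : z ∈ Set.range (π.fiberι y) := by rw [π.range_fiberι]; exact hz
  obtain ⟨U, hyU, hU⟩ := Groth.Agent.S5094.result π hπgen inferInstance y
    (Regular.UFD.isIntegrallyClosed _) p
    (Iso.isOpen_singleton_fiber π y (fun a b ha hb _ => hsub a b ha hb) p)
  haveI := hU
  haveI := Iso.isIso_stalkMap_of_restrict π U z (hz.symm ▸ hyU)
  obtain ⟨q, -, hq⟩ := stalkIdeal_eq_span hπ.1 z
  rw [stalkIdeal_comap, hJ] at hq
  clear_value J
  subst hz
  rw [Main.stalkIdeal_vanishingIdeal_self] at hq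
  let e := RingEquiv.ofBijective (π.stalkMap z).hom (ConcreteCategory.bijective_of_isIso _)
  have hm : maximalIdeal (Y.presheaf.stalk (π z)) = Ideal.span {e.symm q} := by
    have h1 := congrArg (Ideal.map e.symm.toRingHom) hq
    rw [Ideal.map_map, Ideal.map_span, Set.image_singleton,
      show e.symm.toRingHom.comp (π.stalkMap z).hom = RingHom.id _ from
        RingHom.ext fun r => e.symm_apply_apply r, Ideal.map_id] at h1
    exact h1
  have h2 : (maximalIdeal (Y.presheaf.stalk (π z))).spanFinrank ≤ 1 := by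
    rw [hm]
    exact (Submodule.spanFinrank_span_le_ncard_of_finite (Set.finite_singleton _)).trans (by simp)
  have h3 := IsRegularLocalRing.spanFinrank_maximalIdeal (R := Y.presheaf.stalk (π z))
  rw [hdim] at h3
  have h4 : (maximalIdeal (Y.presheaf.stalk (π z))).spanFinrank = 2 := by exact_mod_cast h3
  omega

variable {A : Type u} [CommRing A] [IsRegularLocalRing A] {X : Scheme.{u}}
  {b : X ⟶ Spec (CommRingCat.of A)}

local notation "𝓜" => Curv2.idealSheaf A (IsLocalRing.maximalIdeal A)

theorem idealSheaf_eq_vanishingIdeal (s : ↥(Spec (CommRingCat.of A))) (hs : s = IsLocalRing.closedPoint A)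
    (hc : IsClosed ({s} : Set ↥(Spec (CommRingCat.of A)))) :
    𝓜 = Scheme.IdealSheafData.vanishingIdeal ⟨{s}, hc⟩ := by
  subst hs
  haveI := PointBlow85.isRegularLocalRing_top A
  have hle : 𝓜 ≤ Scheme.IdealSheafData.vanishingIdeal ⟨_, hc⟩ := by
    rw [← Scheme.IdealSheafData.le_support_iff_le_vanishingIdeal, ← SetLike.coe_subset_coe]
    exact Flat55.ContractionFibre.support_eq.ge
  refine le_antisymm hle (Scheme.IdealSheafData.le_of_isAffine ?_)
  rw [PointBlow85.idealSheaf_maximal_top]
  refine IsLocalRing.le_maximalIdeal fun htop => ?_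
  have h2 : Scheme.IdealSheafData.vanishingIdeal ⟨_, hc⟩ = (⊤ : (Spec (CommRingCat.of A)).IdealSheafData) :=
    Scheme.IdealSheafData.ext_of_isAffine (htop.trans (by simp))
  have h3 := congrArg (fun J : (Spec (CommRingCat.of A)).IdealSheafData => (J.support : Set ↥(Spec (CommRingCat.of A)))) h2
  rw [Scheme.IdealSheafData.coe_support_vanishingIdeal, Scheme.IdealSheafData.support_top] at h3
  exact (Set.singleton_nonempty _).ne_empty h3

/-- A proper specialization is smaller. -/
theorem lt_of_spec {W : Scheme.{u}} {p q : W} (h : p ⤳ q) (hne : p ≠ q) : q < p :=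
  lt_of_le_not_ge h fun h' => hne (h.antisymm h').eq

theorem main (hA : ringKrullDim A = 2) (hb : BlowUp.IsBlowUp b 𝓜) :
    (∃ r : X ⟶ CohB1.ProjSpace 1 A, IsClosedImmersion r ∧ r ≫ CohB1.ProjSpace.toSpec 1 A = b ∧
      Nonempty ((Scheme.Modules.pullback r).obj (Twist.twistProjSpace 1 A 1) ≅
        ClSub.idealMod (BlowUp.exceptional b 𝓜))) ∧
    Models.IsExcCurve (BlowUp.exceptional b 𝓜).subschemeι := by
  haveI := PointBlow85.isIntegral hA hb
  haveI : IsDomain A := Regular.Quotient.isDomain A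
  obtain ⟨a, -, ha⟩ := PointBlow85.exists_top_params (A := A) hA
  obtain ⟨r, hr, hrb, ⟨τ⟩⟩ := Plane.exists_closedImmersion' (n := 1) 𝓜 a ha.symm b hb
  refine ⟨⟨r, hr, hrb, ⟨τ⟩⟩, ?_⟩
  haveI := hr
  haveI : IsProper b := BlowUpExists.isProper_of_isBlowUp hb fun U => by
    haveI : IsNoetherianRing Γ(Spec (CommRingCat.of A), U.1) :=
      IsLocallyNoetherian.component_noetherian U
    exact IsNoetherian.noetherian _
  set I := BlowUp.exceptional b 𝓜 with hI
  set ι := I.subschemeι
  set φ := IsLocalRing.residue A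
  let res := Spec.map (CommRingCat.ofHom φ)
  haveI : IsClosedImmersion res := IsClosedImmersion.spec_of_surjective _ IsLocalRing.residue_surjective
  let p := ProjSpace.BaseChange.projMap 1 φ
  have hpb := ProjSpace.BaseChange.isPullback_projMap 1 φ
  haveI : IsClosedImmersion p := MorphismProperty.of_isPullback hpb.flip inferInstance
  have hres : res.ker ≤ (ι ≫ b).ker := by
    haveI := PointBlow85.isRegularLocalRing_top A
    have h1 : res.ker ≤ 𝓜 := by
      refine Scheme.IdealSheafData.le_of_isAffine ?_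
      rw [PointBlow85.idealSheaf_maximal_top, Scheme.Hom.ker_apply]
      haveI : Nontrivial Γ(Spec (CommRingCat.of (ResidueField A)), res ⁻¹ᵁ ⊤) :=
        (Scheme.ΓSpecIso (CommRingCat.of (ResidueField A))).commRingCatIsoToRingEquiv.toEquiv.nontrivial
      exact IsLocalRing.le_maximalIdeal (RingHom.ker_ne_top _)
    refine h1.trans ?_
    exact Scheme.IdealSheafData.le_map_comap _ b
  let t := IsClosedImmersion.lift res (ι ≫ b) hres
  have ht : t ≫ res = ι ≫ b := IsClosedImmersion.lift_fac _ _ _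
  have w : (ι ≫ r) ≫ CohB1.ProjSpace.toSpec 1 A = t ≫ res := by rw [Category.assoc, hrb, ht]
  let h := hpb.lift (ι ≫ r) t w
  have hp : h ≫ p = ι ≫ r := hpb.lift_fst _ _ _
  haveI : IsClosedImmersion (h ≫ p) := hp.symm ▸ inferInstance
  haveI : IsClosedImmersion h := IsClosedImmersion.of_comp h p
  haveI : IsIntegral (CohB1.ProjSpace 1 (ResidueField A)) := ProjSpace.Basic.isIntegral_projSpace 1 (ResidueField A)
  -- `E` fills the projective line
  haveI : Surjective h := by
    set s : (Spec (CommRingCat.of A) : Scheme.{u}) := IsLocalRing.closedPoint A with hs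
    have hrange : Set.range ι = b ⁻¹' {s} := by
      rw [Scheme.IdealSheafData.range_subschemeι]
      exact Flat55.ContractionFibre.fibre_eq
    obtain ⟨hirr, -⟩ := Flat55.ContractionFibre.fibre_spec hA hb
    have hc := h.isClosedEmbedding.isClosed_range
    have hirr' : IsIrreducible (Set.range ι) := hrange ▸ hirr
    have hEirr : IsIrreducible (Set.univ : Set I.subscheme) := by
      refine ⟨?_, ?_⟩
      · obtain ⟨_, e, rfl⟩ := hirr'.nonempty
        exact ⟨e, trivial⟩
      · intro U V hU hV ⟨x, _, hx⟩ ⟨y, _, hy⟩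
        obtain ⟨U', hU', rfl⟩ := ι.isClosedEmbedding.isInducing.isOpen_iff.mp hU
        obtain ⟨V', hV', rfl⟩ := ι.isClosedEmbedding.isInducing.isOpen_iff.mp hV
        obtain ⟨_, ⟨e, rfl⟩, he⟩ := hirr'.2 U' V' hU' hV' ⟨ι x, ⟨x, rfl⟩, hx⟩ ⟨ι y, ⟨y, rfl⟩, hy⟩
        exact ⟨e, trivial, he⟩
    have hQ : IsIrreducible (Set.range h) := by
      rw [← Set.image_univ]; exact hEirr.image h h.continuous.continuousOn
    obtain ⟨ξ, hξ⟩ := QuasiSober.sober hQ hc
    by_cases hgen : ξ = genericPoint (CohB1.ProjSpace 1 (ResidueField A))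
    · refine ⟨fun z => ?_⟩
      have : z ∈ Set.range h := by
        rw [← hξ.def, hgen, (genericPoint_spec _).def]; trivial
      exact this
    exfalso
    have hone : ∀ z ∈ Set.range h, z = ξ := by
      intro z hz
      by_contra hne
      have hd : topologicalKrullDim (CohB1.ProjSpace 1 (ResidueField A)) ≤ 1 :=
        (ProjSpace.Dim.topologicalKrullDim_projSpace_of_field 1 (ResidueField A)).le.trans (by norm_num)
      have h1 := Order.coheight_add_one_le (lt_of_spec (genericPoint_specializes ξ) (Ne.symm hgen))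
      have h2 := Order.coheight_add_one_le (lt_of_spec (hξ.specializes hz) (Ne.symm hne))
      have h4 : (2 : ℕ∞) ≤ Order.coheight z :=
        calc (2 : ℕ∞) = 0 + 1 + 1 := by norm_num
          _ ≤ Order.coheight (genericPoint (CohB1.ProjSpace 1 (ResidueField A))) + 1 + 1 := by gcongr; exact zero_le
          _ ≤ Order.coheight ξ + 1 := by gcongr
          _ ≤ Order.coheight z := h2
      have h5 := (WithBot.coe_le_coe.mpr h4).trans
        ((SmoothCurve.Stalk.coheight_le_topologicalKrullDim z).trans hd)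
      norm_cast at h5
    haveI : IsRegularLocalRing ((Spec (CommRingCat.of A)).presheaf.stalk s) :=
      PointBlow85.isRegularLocalRing_stalk_spec s
    have hds : ringKrullDim ((Spec (CommRingCat.of A)).presheaf.stalk s) = 2 := by
      letI : Algebra A ↑((Spec (CommRingCat.of A)).presheaf.stalk s) := StructureSheaf.stalkAlgebra A s
      haveI : IsLocalization.AtPrime (↑((Spec (CommRingCat.of A)).presheaf.stalk s)) s.asIdeal :=
        StructureSheaf.IsLocalization.to_stalk A s
      rw [IsLocalization.AtPrime.ringKrullDim_eq_height s.asIdeal, hs]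
      exact IsLocalRing.maximalIdeal_height_eq_ringKrullDim.trans hA
    refine fibre_not_subsingleton b s (IsLocalRing.isClosed_singleton_closedPoint A) ?_ hds
      (idealSheaf_eq_vanishingIdeal (A := A) s hs (IsLocalRing.isClosed_singleton_closedPoint A) ▸ hb) fun q q' hq hq' => ?_
    · intro he
      have h0 : (Order.coheight (genericPoint (Spec (CommRingCat.of A)) : Spec (CommRingCat.of A)) : ℕ∞) = 0 :=
        Order.coheight_eq_zero.mpr fun z _ => genericPoint_specializes z
      rw [ringKrullDim_stalk_eq_coheight, he, h0] at hds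
      exact absurd hds (by decide)
    · obtain ⟨e, rfl⟩ : q ∈ Set.range ι := hrange ▸ hq
      obtain ⟨e', rfl⟩ : q' ∈ Set.range ι := hrange ▸ hq'
      exact congrArg ι (h.isClosedEmbedding.injective
        ((hone _ ⟨e, rfl⟩).trans (hone _ ⟨e', rfl⟩).symm))
  haveI : IsIso h := isIso_of_isClosedImmersion_of_surjective h
  have hker : ι.ker = I := Scheme.IdealSheafData.ker_subschemeι _
  refine ⟨hker.symm ▸ hb.1, ResidueField A, inferInstance, (asIso h).symm, ?_⟩
  rw [hker]
  obtain ⟨ψ⟩ := ProjSpace.TwistBC.nonempty_iso 1 φ (1 : ℤ)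
  have hcomp : ((asIso h).symm.hom ≫ ι) ≫ r = p := by
    rw [Iso.symm_hom, asIso_inv, Category.assoc, ← hp, IsIso.inv_hom_id_assoc]
  exact ⟨(Scheme.Modules.pullback ((asIso h).symm.hom ≫ ι)).mapIso τ.symm ≪≫
    (Scheme.Modules.pullbackComp ((asIso h).symm.hom ≫ ι) r).app _ ≪≫
    (Scheme.Modules.pullbackCongr hcomp).app _ ≪≫ ψ⟩

end Groth.Agent.Lib.SurfFactor85.Exc
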