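import Mathlib
import Groth.Prelude.Def_ModelsG
import Groth.Agent.Lib.SurfFactor85.Exc

/-!
# Point blow-ups contract exceptional curves; birational morphisms of regular surfaces are such sequences
-/

set_option autoImplicit false
universe u

open CategoryTheory CategoryTheory.Limits AlgebraicGeometry TopologicalSpace IsLocalRing

namespace Groth.Agent.Lib.SurfFactor85.Seq

open Groth.Agent.Lib Groth.Agent.Lib.Ideal.Prime Groth.Agent.Lib.CartierDescent

section global

variable {Y Y' : Scheme.{u}}

/-- The exceptional curve of the blow-up of a closed regular point of dimension two. -/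
theorem isExcCurve [IsLocallyNoetherian Y] (π : Y' ⟶ Y) (y : Y) (hy : IsClosed ({y} : Set Y))
    [IsRegularLocalRing (Y.presheaf.stalk y)] (hdim : ringKrullDim (Y.presheaf.stalk y) = 2)
    (hπ : BlowUp.IsBlowUp π (Scheme.IdealSheafData.vanishingIdeal ⟨{y}, hy⟩)) :
    Models.IsExcCurve
      (BlowUp.exceptional π (Scheme.IdealSheafData.vanishingIdeal ⟨{y}, hy⟩)).subschemeι := by
  set J := Scheme.IdealSheafData.vanishingIdeal (⟨{y}, hy⟩ : TopologicalSpace.Closeds Y) with hJ
  set j := Y.fromSpecStalk y
  haveI : Flat j := Unram.BaseChangeNhd.flat_fromSpecStalk y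
  set P := pullback.fst j π
  set Q := pullback.snd j π
  have hb := Ideal.BlowUp.isBlowUp_flat_baseChange j hπ
  rw [Flat55.ContractionUniversal.comap_vanishingIdeal_stalk] at hb
  obtain ⟨-, hcurve⟩ := Exc.main hdim hb
  set EW := BlowUp.exceptional P (Curv2.idealSheaf (Y.presheaf.stalk y) (maximalIdeal _)) with hEW
  set E := BlowUp.exceptional π J with hE
  have hEQ : EW = E.comap Q := by
    rw [hEW, hE, BlowUp.exceptional, BlowUp.exceptional,
      ← Flat55.ContractionUniversal.comap_vanishingIdeal_stalk y hy,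
      ← Scheme.IdealSheafData.comap_comp, ← Scheme.IdealSheafData.comap_comp, pullback.condition]
  -- the exceptional divisor maps to the local scheme
  haveI : IsClosedImmersion (Y.fromSpecResidueField y) := isClosed_singleton_iff_isClosedImmersion.mp hy
  have hker : (Y.fromSpecResidueField y).ker ≤ (E.subschemeι ≫ π).ker := by
    have h1 : (Y.fromSpecResidueField y).ker ≤ J := by
      rw [hJ, ← Scheme.IdealSheafData.le_support_iff_le_vanishingIdeal, ← SetLike.coe_subset_coe,
        Scheme.Hom.support_ker, Scheme.range_fromSpecResidueField]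
      exact subset_closure
    exact h1.trans (Scheme.IdealSheafData.le_map_comap J π)
  let t := IsClosedImmersion.lift (Y.fromSpecResidueField y) (E.subschemeι ≫ π) hker
  have ht : t ≫ Y.fromSpecResidueField y = E.subschemeι ≫ π := IsClosedImmersion.lift_fac _ _ _
  let σ : E.subscheme ⟶ pullback j π := pullback.lift (t ≫ Spec.map (Y.residue y)) E.subschemeι (by
    rw [Category.assoc, ← ht]; rfl)
  have hσ : σ ≫ Q = E.subschemeι := pullback.lift_snd _ _ _
  have hfwd : EW.subschemeι.ker ≤ σ.ker := by
    rw [Scheme.IdealSheafData.ker_subschemeι, hEQ, ← Scheme.IdealSheafData.map_bot,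
      Scheme.IdealSheafData.le_map_iff_comap_le, ← Scheme.IdealSheafData.comap_comp, hσ,
      ← Scheme.IdealSheafData.le_map_iff_comap_le, Scheme.IdealSheafData.map_bot,
      Scheme.IdealSheafData.ker_subschemeι]
  let a := IsClosedImmersion.lift EW.subschemeι σ hfwd
  have ha : a ≫ EW.subschemeι = σ := IsClosedImmersion.lift_fac _ _ _
  have hbwd : E.subschemeι.ker ≤ (EW.subschemeι ≫ Q).ker := by
    rw [Scheme.IdealSheafData.ker_subschemeι, ← Scheme.IdealSheafData.map_bot,
      Scheme.IdealSheafData.le_map_iff_comap_le, Scheme.IdealSheafData.comap_comp, ← hEQ,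
      ← Scheme.IdealSheafData.le_map_iff_comap_le, Scheme.IdealSheafData.map_bot,
      Scheme.IdealSheafData.ker_subschemeι]
  let c := IsClosedImmersion.lift E.subschemeι (EW.subschemeι ≫ Q) hbwd
  have hc : c ≫ E.subschemeι = EW.subschemeι ≫ Q := IsClosedImmersion.lift_fac _ _ _
  have hac : a ≫ c = 𝟙 _ := by
    rw [← cancel_mono E.subschemeι, Category.assoc, hc, ← Category.assoc, ha, hσ, Category.id_comp]
  have hca : c ≫ a = 𝟙 _ := by
    rw [← cancel_mono EW.subschemeι, ← cancel_mono Q, Category.id_comp, Category.assoc, Category.assoc,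
      ← Category.assoc a, ha, hσ, hc]
  obtain ⟨-, k, hk, e, ⟨φ⟩⟩ := hcurve
  refine ⟨by rw [Scheme.IdealSheafData.ker_subschemeι]; exact hπ.1, k, hk, e ≪≫ ⟨c, a, hca, hac⟩, ?_⟩
  have hcomp : ((e ≪≫ ⟨c, a, hca, hac⟩).hom ≫ E.subschemeι) = (e.hom ≫ EW.subschemeι) ≫ Q := by
    rw [Iso.trans_hom, Category.assoc, Category.assoc, hc]
  obtain ⟨ψ⟩ := ModelFibre.IdealPull.nonempty_pullback_idealMod Q (I := E) hπ.1
    fun U g hg _ x hx => Lib.Ideal.EffCartier.germ_app_mem_nonZeroDivisors_of_flat Q g x hx
      (Flat.stalkMap Q x) (Lib.Ideal.EffCartier.germ_mem_nonZeroDivisors U.2 hg (Q x) hx)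
  rw [Scheme.IdealSheafData.ker_subschemeι] at φ ⊢
  exact ⟨(Scheme.Modules.pullbackCongr hcomp).app _ ≪≫
    (Scheme.Modules.pullbackComp _ Q).symm.app _ ≪≫
    (Scheme.Modules.pullback (e.hom ≫ EW.subschemeι)).mapIso (ψ ≪≫ eqToIso (by rw [hEQ])) ≪≫ φ⟩

theorem isContractionOf [IsNoetherian Y] (π : Y' ⟶ Y) [IsProper π] [Surjective π] (y : Y)
    (hy : IsClosed ({y} : Set Y)) [IsRegularLocalRing (Y.presheaf.stalk y)]
    (hdim : ringKrullDim (Y.presheaf.stalk y) = 2)
    (hπ : BlowUp.IsBlowUp π (Scheme.IdealSheafData.vanishingIdeal ⟨{y}, hy⟩)) :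
    Models.IsContractionOf
      (BlowUp.exceptional π (Scheme.IdealSheafData.vanishingIdeal ⟨{y}, hy⟩)).subschemeι π := by
  refine ⟨inferInstance, inferInstance, y, hy, ?_, inferInstance, hdim, hπ⟩
  rw [Scheme.Hom.comp_base, TopCat.coe_comp, Set.range_comp, Scheme.IdealSheafData.range_subschemeι,
    Scheme.IdealSheafData.support_comap, TopologicalSpace.Closeds.coe_preimage,
    Scheme.IdealSheafData.coe_support_vanishingIdeal]
  exact Set.image_preimage_eq _ π.surjective

end global

theorem isIso_restrict_le {X Y : Scheme.{u}} (f : X ⟶ Y) {U V : Y.Opens} (h : IsIso (f ∣_ U)) (hVU : V ≤ U) :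
    IsIso (f ∣_ V) := by
  haveI := h
  have h1 : IsIso ((f ∣_ U) ∣_ (U.ι ⁻¹ᵁ V)) := inferInstance
  exact (MorphismProperty.arrow_mk_iso_iff (MorphismProperty.isomorphisms Scheme)
    ((morphismRestrictRestrict f U (U.ι ⁻¹ᵁ V)) ≪≫ morphismRestrictEq f (by
      rw [Scheme.Hom.image_preimage_eq_opensRange_inf, Scheme.Opens.opensRange_ι]
      exact inf_eq_right.mpr hVU))).mp h1

/-- Contraction sequences compose. -/
theorem isContractionSeq_comp {A B : Scheme.{u}} {f : A ⟶ B} (hf : Models.IsContractionSeq f) :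
    ∀ {C : Scheme.{u}} (g : B ⟶ C) {D : Scheme.{u}} (ι : D ⟶ B), IsClosedImmersion ι →
      Models.IsExcCurve ι → Models.IsContractionOf ι g → Models.IsContractionSeq (f ≫ g) := by
  induction hf with
  | iso e =>
    intro C g D ι hι hE hg
    obtain ⟨hC, hprop, y, hy, hr, hreg, hdim, hbl⟩ := hg
    haveI := hι; haveI := hprop
    have h1 : Models.IsContractionSeq (e.hom ≫ g) := by
      have := Models.IsContractionSeq.step (r := 𝟙 C) (ι ≫ e.inv) (e.hom ≫ g) inferInstance ?_ ?_
        (Models.IsContractionSeq.iso (Iso.refl C))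
      · simpa using this
      · obtain ⟨hcart, k, hk, e', ⟨φ⟩⟩ := hE
        have hk' : (ι ≫ e.inv).ker = ι.ker.comap e.hom := by
          apply le_antisymm
          · conv_lhs => rw [← Scheme.IdealSheafData.comap_id (ι ≫ e.inv).ker, ← e.hom_inv_id,
              Scheme.IdealSheafData.comap_comp]
            refine (Scheme.IdealSheafData.map_gc e.hom).monotone_l ?_
            rw [← Scheme.IdealSheafData.le_map_iff_comap_le, Scheme.IdealSheafData.map_ker]
          · rw [← Scheme.IdealSheafData.le_map_iff_comap_le, Scheme.IdealSheafData.map_ker,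
              Category.assoc, e.inv_hom_id, Category.comp_id]
        refine ⟨hk' ▸ Lib.Ideal.EffCartier.isEffCartier_comap_of_flat _ hcart, k, hk, e', ?_⟩
        obtain ⟨ψ⟩ := ModelFibre.IdealPull.nonempty_pullback_idealMod e.hom (I := ι.ker) hcart
          fun U g hg _ x hx => Lib.Ideal.EffCartier.germ_app_mem_nonZeroDivisors_of_flat e.hom g x hx
            (Flat.stalkMap e.hom x) (Lib.Ideal.EffCartier.germ_mem_nonZeroDivisors U.2 hg (e.hom x) hx)
        have hcomp : (e'.hom ≫ ι ≫ e.inv) ≫ e.hom = e'.hom ≫ ι := by simp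
        exact ⟨(Scheme.Modules.pullback (e'.hom ≫ ι ≫ e.inv)).mapIso (eqToIso (by rw [hk']) ≪≫ ψ.symm) ≪≫
          (Scheme.Modules.pullbackComp _ e.hom).app _ ≪≫ (Scheme.Modules.pullbackCongr hcomp).app _ ≪≫ φ⟩
      · refine ⟨hC, inferInstance, y, hy, ?_, hreg, hdim, ?_⟩
        · have : (ι ≫ e.inv) ≫ e.hom ≫ g = ι ≫ g := by simp
          rw [this]; exact hr
        · exact Flat55.ContractionUniversal.isBlowUp_iso_comp hbl e.hom
    exact h1
  | step ι' b r hι' hE' hb hr ih =>
    intro C g D ι hι hE hg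
    rw [Category.assoc]
    exact Models.IsContractionSeq.step ι' b (r ≫ g) hι' hE' hb (ih g ι hι hE hg)

/-- The exceptional points. -/
def N {X Y : Scheme.{u}} (f : X ⟶ Y) : Set X := {x | Order.coheight x = 1 ∧ Order.coheight (f x) = 2}

theorem finite_N {X Y : Scheme.{u}} [IsIntegral X] [IsIntegral Y] [IsNoetherian X] (f : X ⟶ Y)
    (V : Y.Opens) (hV : (V : Set Y).Nonempty) (hiso : IsIso (f ∣_ V)) : (N f).Finite := by
  have hgen := (ZMTStein.generic_of_isIso_restrict f V hV hiso).1
  set Z : Set X := ((f ⁻¹ᵁ V : X.Opens) : Set X)ᶜ with hZ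
  have hηV : genericPoint X ∈ f ⁻¹ᵁ V := by
    show f (genericPoint X) ∈ V
    rw [hgen]
    exact ((genericPoint_spec Y).mem_open_set_iff V.2).2 (by simpa using hV)
  have hZc : IsClosed Z := (f ⁻¹ᵁ V).2.isClosed_compl
  obtain ⟨S, hSf, hSc, hSi, hSU⟩ :=
    NoetherianSpace.exists_finite_set_isClosed_irreducible hZc
  choose! gp hgp using fun (s : Set X) (hs : s ∈ S) => QuasiSober.sober (hSi s hs) (hSc s hs)
  refine (hSf.image gp).subset fun x hx => ?_
  haveI := hiso
  by_cases hxV : x ∈ f ⁻¹ᵁ V
  · exfalso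
    haveI := Iso.isIso_stalkMap_of_restrict f V x hxV
    have h1 := ringKrullDim_eq_of_ringEquiv
      (RingEquiv.ofBijective (f.stalkMap x).hom (ConcreteCategory.bijective_of_isIso _))
    rw [ringKrullDim_stalk_eq_coheight, ringKrullDim_stalk_eq_coheight, hx.1, hx.2] at h1
    exact absurd (WithBot.coe_injective h1) (by decide)
  · have hxZ : x ∈ Z := hxV
    rw [hSU] at hxZ
    obtain ⟨s, hs, hxs⟩ := Set.mem_sUnion.mp hxZ
    refine ⟨s, hs, ?_⟩
    by_contra hne
    have hsp : gp s ⤳ x := (hgp s hs).specializes hxs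
    have hgZ : gp s ∈ Z := hSU ▸ Set.mem_sUnion.mpr ⟨s, hs, (hgp s hs).mem⟩
    have hgη : gp s ≠ genericPoint X := fun h => hgZ (h ▸ hηV)
    have h1 := Order.coheight_add_one_le (Exc.lt_of_spec (genericPoint_specializes (gp s)) (Ne.symm hgη))
    have h2 := Order.coheight_add_one_le (Exc.lt_of_spec hsp hne)
    have h4 : (2 : ℕ∞) ≤ Order.coheight x :=
      calc (2 : ℕ∞) = 0 + 1 + 1 := by norm_num
        _ ≤ Order.coheight (genericPoint X) + 1 + 1 := by gcongr; exact zero_le
        _ ≤ Order.coheight (gp s) + 1 := by gcongr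
        _ ≤ Order.coheight x := h2
    rw [hx.1] at h4
    exact absurd h4 (by decide)

theorem dim_le_of_surjective {X W : Scheme.{u}} (g : X ⟶ W) [UniversallyClosed g] [Surjective g]
    {d : WithBot ℕ∞} (h : topologicalKrullDim X ≤ d) : topologicalKrullDim W ≤ d := by
  have hX : topologicalKrullDim X = Order.krullDim X :=
    (Order.krullDim_eq_of_orderIso (irreducibleSetEquivPoints (α := X)))
  have hW : topologicalKrullDim W = Order.krullDim W :=
    (Order.krullDim_eq_of_orderIso (irreducibleSetEquivPoints (α := W)))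
  rw [hW]
  refine le_trans ?_ (hX ▸ h)
  refine iSup_le fun l => ?_
  suffices ∀ l : LTSeries W, ∃ l' : LTSeries X, l'.length = l.length ∧ g l'.head = l.head by
    obtain ⟨l', h1, -⟩ := this l
    rw [← h1]; exact Order.LTSeries.length_le_krullDim l'
  intro l
  induction l using RelSeries.inductionOn with
  | singleton w =>
    obtain ⟨x, hx⟩ := g.surjective w
    exact ⟨RelSeries.singleton _ x, rfl, hx⟩
  | cons p w hw ih =>
    obtain ⟨q, hq1, hq2⟩ := ih
    have hw' : w < p.head := hw
    have hsp : g q.head ⤳ w := hq2.symm ▸ hw'.le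
    obtain ⟨x, hx, hxw⟩ : w ∈ g '' closure {q.head} :=
      hsp.mem_closed (g.isClosedMap _ isClosed_closure) ⟨_, subset_closure rfl, rfl⟩
    have hle : q.head ⤳ x := specializes_iff_mem_closure.mpr hx
    have hlt : x < q.head := Exc.lt_of_spec hle fun h => hw'.ne (by rw [← hxw, ← hq2, h])
    exact ⟨q.cons x hlt, by simp [hq1], by simp [hxw]⟩

theorem exists_bad {X Y : Scheme.{u}} (f : X ⟶ Y) (h : ¬ IsIso f) :
    ∃ y : Y, ∀ U : Y.Opens, y ∈ U → ¬ IsIso (f ∣_ U) := by
  by_contra hc
  push Not at hc
  choose U hU hiso using hc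
  have htop : iSup U = ⊤ := top_le_iff.mp fun p _ => TopologicalSpace.Opens.mem_iSup.mpr ⟨p, hU p⟩
  exact h ((IsZariskiLocalAtTarget.iff_of_iSup_eq_top (P := MorphismProperty.isomorphisms Scheme) U htop).mpr hiso)

/-- A proper birational morphism of regular surfaces is a sequence of point blow-ups. -/
theorem isContractionSeq {X : Scheme.{u}} [IsIntegral X] [IsNoetherian X]
    (hX : ∀ x : X, IsRegularLocalRing (X.presheaf.stalk x)) (hdX : topologicalKrullDim X ≤ 2) :
    ∀ (n : ℕ) {Y : Scheme.{u}} [IsIntegral Y] [IsNoetherian Y] (f : X ⟶ Y) [IsProper f],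
      (∃ V : Y.Opens, (V : Set Y).Nonempty ∧ IsIso (f ∣_ V)) →
      (∀ y : Y, IsRegularLocalRing (Y.presheaf.stalk y)) → (N f).ncard ≤ n →
      Models.IsContractionSeq f := by
  intro n
  induction n using Nat.strong_induction_on with
  | _ n ih =>
    intro Y _ _ f _ hbir hY hn
    by_cases hf : IsIso f
    · exact Models.IsContractionSeq.iso (asIso f)
    obtain ⟨y, hno⟩ := exists_bad f hf
    obtain ⟨V, hV, hV'⟩ := hbir
    obtain ⟨hgen, -⟩ := ZMTStein.generic_of_isIso_restrict f V hV hV'
    haveI : Surjective f := ZMTStein.surjective_of_generic f hgen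
    have hdY := dim_le_of_surjective f hdX
    obtain ⟨x₀, rfl⟩ := f.surjective y
    haveI := hY (f x₀)
    have hdim := Iso.ringKrullDim_stalk_eq_two f ⟨V, hV, hV'⟩ hdY x₀ hno
    have hco : Order.coheight (f x₀) = 2 := by
      rw [ringKrullDim_stalk_eq_coheight] at hdim
      exact WithBot.coe_injective hdim
    have hyc : IsClosed ({f x₀} : Set Y) := by
      rw [← closure_eq_iff_isClosed]
      refine Set.Subset.antisymm (fun c hc => ?_) subset_closure
      by_contra hne
      have hsp : f x₀ ⤳ c := specializes_iff_mem_closure.mpr hc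
      have h1 := Order.coheight_add_one_le (Exc.lt_of_spec hsp (fun e => hne e.symm))
      rw [hco] at h1
      have h5 := (WithBot.coe_le_coe.mpr h1).trans
        ((SmoothCurve.Stalk.coheight_le_topologicalKrullDim c).trans hdY)
      norm_cast at h5
    set y := f x₀ with hy0
    have hyη : y ≠ genericPoint Y := fun he => hno V
      (by rw [he]; exact ((genericPoint_spec Y).mem_open_set_iff V.2).2 (by simpa using hV)) hV'
    set J := Scheme.IdealSheafData.vanishingIdeal (⟨{y}, hyc⟩ : TopologicalSpace.Closeds Y) with hJ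
    obtain ⟨Y', π, hπ⟩ := BlowUpExists.exists_isBlowUp Y J
    haveI : IsProper π := BlowUpExists.isProper_of_isBlowUp hπ fun U => by
      haveI : IsNoetherianRing Γ(Y, U.1) := IsLocallyNoetherian.component_noetherian U
      exact IsNoetherian.noetherian _
    haveI : IsLocallyNoetherian Y' := LocallyOfFiniteType.isLocallyNoetherian π
    haveI : CompactSpace Y' := QuasiCompact.compactSpace_of_compactSpace π
    haveI : IsNoetherian Y' := ⟨⟩
    have hsupp : (J.support : Set Y) = {y} := by
      rw [hJ, Scheme.IdealSheafData.coe_support_vanishingIdeal]; rfl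
    have hJne : J ≠ ⊥ := by
      intro h
      have : (J.support : Set Y) = Set.univ := by rw [h]; simp
      rw [hsupp] at this
      exact hyη (Set.mem_singleton_iff.mp (this.ge (Set.mem_univ (genericPoint Y)))).symm
    obtain ⟨hY'i, -, -⟩ := S2348.result J hJne π hπ
    haveI := hY'i
    set Ω : Y.Opens := ⟨{y}ᶜ, hyc.isOpen_compl⟩
    have hΩ : J.support.compl = Ω := TopologicalSpace.Opens.ext (by
      show (J.support : Set Y)ᶜ = ({y} : Set Y)ᶜ
      rw [hsupp])
    haveI hπΩ : IsIso (π ∣_ Ω) := hΩ ▸ Ideal.BlowUp.isIso_off_center hπ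
    obtain ⟨hπgen, -⟩ := ZMTStein.generic_of_isIso_restrict π Ω ⟨genericPoint Y, Ne.symm hyη⟩ hπΩ
    haveI : Surjective π := ZMTStein.surjective_of_generic π hπgen
    obtain ⟨g, hg, -⟩ := hπ.2 X f
      (Main.isEffCartierIdeal_comap f ⟨V, hV, hV'⟩ hdX hdY hX y hyc hno)
    have hgπ : ∀ x, π (g x) = f x := fun x => by rw [← Scheme.Hom.comp_apply, hg]
    haveI : IsProper (g ≫ π) := hg.symm ▸ inferInstance
    haveI : IsProper g := IsProper.of_comp g π
    have hreg' : ∀ p : Y', IsRegularLocalRing (Y'.presheaf.stalk p) := fun p => by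
      by_cases hp : π p = y
      · exact Iso.isRegularLocalRing_blowUp_stalk π y hyc hdim hπ p hp
      · haveI := Iso.isIso_stalkMap_of_restrict π Ω p hp
        haveI := hY (π p)
        exact IsRegularLocalRing.of_ringEquiv
          (RingEquiv.ofBijective (π.stalkMap p).hom (ConcreteCategory.bijective_of_isIso _))
    set V' : Y'.Opens := π ⁻¹ᵁ (V ⊓ Ω)
    have hηVΩ : genericPoint Y ∈ V ⊓ Ω :=
      ⟨((genericPoint_spec Y).mem_open_set_iff V.2).2 (by simpa using hV), Ne.symm hyη⟩
    have hgV : IsIso (g ∣_ V') := by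
      have h := morphismRestrict_comp g π (V ⊓ Ω)
      haveI : IsIso (π ∣_ (V ⊓ Ω)) :=
        Lib.SurfFactor85.Seq.isIso_restrict_le π hπΩ inf_le_right
      haveI : IsIso (f ∣_ (V ⊓ Ω)) := Lib.SurfFactor85.Seq.isIso_restrict_le f hV' inf_le_left
      subst hg
      haveI : IsIso (g ∣_ V' ≫ π ∣_ (V ⊓ Ω)) := by rw [← h]; assumption
      exact IsIso.of_isIso_comp_right (g ∣_ V') (π ∣_ (V ⊓ Ω))
    have hV'ne : (V' : Set Y').Nonempty := ⟨genericPoint Y', show π (genericPoint Y') ∈ V ⊓ Ω from hπgen.symm ▸ hηVΩ⟩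
    obtain ⟨hggen, -⟩ := ZMTStein.generic_of_isIso_restrict g V' hV'ne hgV
    haveI : Surjective g := ZMTStein.surjective_of_generic g hggen
    have hdY' := dim_le_of_surjective g hdX
    -- the number of exceptional points drops
    have hcoy : ∀ p : Y', π p ≠ y → Order.coheight p = Order.coheight (π p) := fun p hp => by
      haveI := Iso.isIso_stalkMap_of_restrict π Ω p hp
      have h1 := ringKrullDim_eq_of_ringEquiv
        (RingEquiv.ofBijective (π.stalkMap p).hom (ConcreteCategory.bijective_of_isIso _))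
      rw [ringKrullDim_stalk_eq_coheight, ringKrullDim_stalk_eq_coheight] at h1
      exact (WithBot.coe_injective h1).symm
    have hsub : N g ⊆ N f := by
      rintro x ⟨h1, h2⟩
      refine ⟨h1, ?_⟩
      by_cases hp : π (g x) = y
      · rw [← hgπ, hp]; exact hco
      · rw [← hgπ, ← hcoy _ hp]; exact h2
    obtain ⟨p, hpy, hpc⟩ : ∃ p : Y', π p = y ∧ Order.coheight p ≠ 2 := by
      by_contra hc
      push Not at hc
      refine Exc.fibre_not_subsingleton π y hyc hyη hdim hπ fun p q hp hq => ?_
      have hfib : IsIrreducible (π ⁻¹' {y}) :=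
        (Flat55.ContractionUniversal.fibre_irreducible π y hyc hdim hπ).1
      obtain ⟨ξ, hξ⟩ := QuasiSober.sober hfib (hyc.preimage π.continuous)
      have key : ∀ z, π z = y → z = ξ := fun z hz => by
        by_contra hne
        have h1 := Order.coheight_add_one_le (Exc.lt_of_spec (hξ.specializes hz) (Ne.symm hne))
        rw [hc ξ hξ.mem, hc z hz] at h1
        exact absurd h1 (by decide)
      exact (key p hp).trans (key q hq).symm
    have hpne : p ≠ genericPoint Y' := fun h => hyη (by rw [← hpy, h, hπgen])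
    obtain ⟨x₁, hx₁⟩ := g.surjective p
    have hx₁N : x₁ ∈ N f \ N g := by
      refine ⟨⟨?_, by rw [← hgπ, hx₁, hpy]; exact hco⟩, fun h => hpc (hx₁ ▸ h.2)⟩
      have hne : x₁ ≠ genericPoint X := fun h => hpne (by rw [← hx₁, h, hggen])
      refine le_antisymm ?_ ?_
      · by_contra hc
        push Not at hc
        have hx2 : (2 : ℕ∞) ≤ Order.coheight x₁ := Order.add_one_le_of_lt hc
        have hxc : IsClosed ({x₁} : Set X) := by
          rw [← closure_eq_iff_isClosed]
          refine Set.Subset.antisymm (fun c hc' => ?_) subset_closure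
          by_contra hne'
          have hsp : x₁ ⤳ c := specializes_iff_mem_closure.mpr hc'
          have h1 := Order.coheight_add_one_le (Exc.lt_of_spec hsp (fun e => hne' e.symm))
          have h5 := (WithBot.coe_le_coe.mpr ((add_le_add hx2 le_rfl).trans h1)).trans
            ((SmoothCurve.Stalk.coheight_le_topologicalKrullDim c).trans hdX)
          norm_cast at h5
        have hpcl : IsClosed ({p} : Set Y') := by
          have := g.isClosedMap _ hxc
          rwa [Set.image_singleton, hx₁] at this
        -- a closed point of the surface has coheight two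
        apply hpc
        have hcp : (2 : ℕ∞) ≤ Order.coheight p := by
          haveI := hreg' p
          by_contra hlt
          push Not at hlt
          obtain ⟨ξ, hξ⟩ := QuasiSober.sober
            (Flat55.ContractionUniversal.fibre_irreducible π y hyc hdim hπ).1 (hyc.preimage π.continuous)
          have hsp := hξ.specializes (show p ∈ π ⁻¹' {y} from hpy)
          have hξp : ξ = p := by
            by_contra hne2
            have hξη : ξ ≠ genericPoint Y' := fun h => hyη (by
              have : π ξ = y := hξ.mem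
              rw [← this, h, hπgen])
            have h1 := Order.coheight_add_one_le (Exc.lt_of_spec (genericPoint_specializes ξ) (Ne.symm hξη))
            have h2 := Order.coheight_add_one_le (Exc.lt_of_spec hsp hne2)
            have h4 : (2 : ℕ∞) ≤ Order.coheight p :=
              calc (2 : ℕ∞) = 0 + 1 + 1 := by norm_num
                _ ≤ Order.coheight (genericPoint Y') + 1 + 1 := by gcongr; exact zero_le
                _ ≤ Order.coheight ξ + 1 := by gcongr
                _ ≤ Order.coheight p := h2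
            exact absurd h4 (not_le.mpr hlt)
          subst hξp
          exact Exc.fibre_not_subsingleton π y hyc hyη hdim hπ fun a b ha hb =>
            (Set.mem_singleton_iff.mp ((hξ.specializes ha).mem_closed hpcl rfl)).trans
              (Set.mem_singleton_iff.mp ((hξ.specializes hb).mem_closed hpcl rfl)).symm
        refine le_antisymm ?_ hcp
        exact WithBot.coe_le_coe.mp ((SmoothCurve.Stalk.coheight_le_topologicalKrullDim p).trans hdY')
      · exact Order.one_le_iff_pos.mpr (pos_iff_ne_zero.mpr fun h0 => hne (by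
          rw [Order.coheight_eq_zero] at h0
          exact ((genericPoint_specializes x₁).antisymm (h0 (genericPoint_specializes x₁))).eq.symm))
    have hlt : (N g).ncard < n := by
      refine lt_of_lt_of_le (Set.ncard_lt_ncard ⟨hsub, fun h => hx₁N.2 (h hx₁N.1)⟩
        (finite_N f V hV hV')) hn
    rw [← hg]
    exact isContractionSeq_comp (ih _ hlt g ⟨V', hV'ne, hgV⟩ hreg' le_rfl) π _ inferInstance
      (isExcCurve π y hyc hdim hπ) (isContractionOf π y hyc hdim hπ)

end Groth.Agent.Lib.SurfFactor85.Seq
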