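import Mathlib
import Groth.Agent.Lib.SurfFactor85.Seq

/-!
# The reduced fibre of a point blow-up is an exceptional curve
-/

set_option autoImplicit false
universe u

open CategoryTheory CategoryTheory.Limits AlgebraicGeometry TopologicalSpace IsLocalRing

namespace Groth.Agent.Lib.SurfFactor85.Contract

open Groth.Agent.Lib

theorem ker_eq_vanishingIdeal {E X : Scheme.{u}} [IsReduced E] (ι : E ⟶ X) [IsClosedImmersion ι] :
    ι.ker = Scheme.IdealSheafData.vanishingIdeal ⟨Set.range ι, ι.isClosedEmbedding.isClosed_range⟩ := by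
  refine le_antisymm ?_ ?_
  · rw [← Scheme.IdealSheafData.le_support_iff_le_vanishingIdeal, ← SetLike.coe_subset_coe,
      Scheme.Hom.support_ker]
    exact subset_closure
  · rw [← Scheme.IdealSheafData.map_bot, Scheme.IdealSheafData.le_map_iff_comap_le, le_bot_iff,
      ← Scheme.IdealSheafData.support_eq_top_iff, Scheme.IdealSheafData.support_comap]
    ext z
    rw [TopologicalSpace.Closeds.coe_preimage, Scheme.IdealSheafData.coe_support_vanishingIdeal]
    simp

theorem isExcCurve_of_range_eq {X Y E : Scheme.{u}} [IsLocallyNoetherian Y] (π : X ⟶ Y) (y : Y)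
    (hy : IsClosed ({y} : Set Y)) [IsRegularLocalRing (Y.presheaf.stalk y)]
    (hdim : ringKrullDim (Y.presheaf.stalk y) = 2)
    (hπ : BlowUp.IsBlowUp π (Scheme.IdealSheafData.vanishingIdeal ⟨{y}, hy⟩))
    [IsReduced E] (ι : E ⟶ X) [IsClosedImmersion ι] (hι : Set.range ι = π ⁻¹' {y}) :
    Models.IsExcCurve ι := by
  set I := BlowUp.exceptional π (Scheme.IdealSheafData.vanishingIdeal ⟨{y}, hy⟩) with hI
  obtain ⟨hcart, k, hk, e, ⟨φ⟩⟩ := Seq.isExcCurve π y hy hdim hπ
  letI := hk
  haveI : IsReduced (CohB1.ProjSpace 1 k) := inferInstance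
  haveI : IsReduced I.subscheme := isReduced_of_isOpenImmersion e.inv
  have hrange : Set.range I.subschemeι = Set.range ι := by
    rw [hι, Scheme.IdealSheafData.range_subschemeι, hI, BlowUp.exceptional,
      Scheme.IdealSheafData.support_comap, TopologicalSpace.Closeds.coe_preimage,
      Scheme.IdealSheafData.coe_support_vanishingIdeal]
    rfl
  have hker : I.subschemeι.ker = ι.ker := by
    rw [ker_eq_vanishingIdeal, ker_eq_vanishingIdeal]
    simp only [hrange]
  let a := IsClosedImmersion.lift ι I.subschemeι hker.ge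
  let b := IsClosedImmersion.lift I.subschemeι ι hker.le
  have ha : a ≫ ι = I.subschemeι := IsClosedImmersion.lift_fac _ _ _
  have hb : b ≫ I.subschemeι = ι := IsClosedImmersion.lift_fac _ _ _
  let ab : I.subscheme ≅ E := ⟨a, b,
    by rw [← cancel_mono I.subschemeι, Category.assoc, hb, ha, Category.id_comp],
    by rw [← cancel_mono ι, Category.assoc, ha, hb, Category.id_comp]⟩
  refine ⟨hker ▸ hcart, k, hk, e ≪≫ ab, ?_⟩
  rw [hker] at φ
  have hcomp : (e ≪≫ ab).hom ≫ ι = e.hom ≫ I.subschemeι := by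
    rw [Iso.trans_hom, Category.assoc, ha]
  exact ⟨(Scheme.Modules.pullbackCongr hcomp).app _ ≪≫ φ⟩

end Groth.Agent.Lib.SurfFactor85.Contract
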