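import Groth.Agent.Lib.PointBlow96.Powers
import Groth.Agent.Lib.FibreInt.Basic
import Groth.Agent.Lib.SurfInt.NegDef

/-!
# The Euler characteristic of a strict transform under a point blow-up
-/

set_option autoImplicit false
set_option linter.style.haveILetI false
universe u

open CategoryTheory CategoryTheory.Limits AlgebraicGeometry TopologicalSpace

namespace Groth.Agent.Lib.SurfFactor85.Euler

open Groth.Agent.Lib Groth.Agent.Lib.PointBlow96 Groth.Agent.Lib.Snapper
open Groth.Agent.Lib.TensorMod.Basic (tensorIso leftUnit rightUnit)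

/-- An effective Cartier divisor of an integral scheme misses the generic point. -/
theorem genericPoint_notMem_support {X : Scheme.{u}} [IsIntegral X] {I : X.IdealSheafData}
    (hI : BlowUp.IsEffCartierIdeal I) : genericPoint X ∉ (I.support : Set X) := by
  intro h
  obtain ⟨U, hU, e, he, hIe⟩ := hI (genericPoint X)
  haveI : Nonempty (U : X.Opens) := ⟨⟨_, hU⟩⟩
  have h' := (Scheme.IdealSheafData.coe_support_inter I U).le ⟨h, hU⟩
  rw [hIe] at h'
  have hb : genericPoint X ∉ X.basicOpen e := by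
    simpa [Scheme.zeroLocus_span] using h'.1
  have hb0 : X.basicOpen e = ⊥ := by
    by_contra hne
    obtain ⟨w, hw⟩ := Set.nonempty_iff_ne_empty.2 (fun h0 => hne (TopologicalSpace.Opens.ext h0))
    exact hb ((genericPoint_specializes w).mem_open (X.basicOpen e).isOpen hw)
  exact nonZeroDivisors.ne_zero he ((AlgebraicGeometry.basicOpen_eq_bot_iff e).1 hb0)

variable (k : Type u) [Field k] [IsAlgClosed k] {Y X : Scheme.{u}}
  [Y.Over (Spec (CommRingCat.of k))] [IsProper (Y ↘ Spec (CommRingCat.of k))] [IsIntegral Y]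
  (hdim : topologicalKrullDim Y = 2) (hreg : ∀ y : Y, IsRegularLocalRing (Y.presheaf.stalk y))
  {x : Y} (hx : IsClosed ({x} : Set Y)) {σ : X ⟶ Y} [X.Over (Spec (CommRingCat.of k))]
  (hσk : σ ≫ (Y ↘ Spec (CommRingCat.of k)) = X ↘ Spec (CommRingCat.of k))
  (hσ : BlowUp.IsBlowUp σ (ptI hx))

local notation "EE" => BlowUp.exceptional σ (ptI hx)

include hdim hreg hσk hσ

/-- If `σ⁻¹C = C' + mE` then `2χ(I_C') = 2χ(I_C) - m(m-1)`. -/
theorem two_mul_chi_strict {C : Y.IdealSheafData} (hC : BlowUp.IsEffCartierIdeal C)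
    {C' : X.IdealSheafData} (hC' : BlowUp.IsEffCartierIdeal C') (m : ℕ)
    (hm : C.comap σ = C' * EE ^ m) :
    2 * FGA.eulerCharLE k X (_root_.ClSub.idealMod C') 2 =
      2 * FGA.eulerCharLE k Y (_root_.ClSub.idealMod C) 2 - (m : ℤ) * ((m : ℤ) - 1) := by
  haveI := Curves.GlobalSections.isNoetherian_of_proper k Y
  haveI := isProper_X k hx hσk hσ
  haveI := Curves.GlobalSections.isNoetherian_of_proper k X
  haveI := isIntegral_X k hdim hx hσk hσ
  have hX2 := dim_X k hdim hx hσk hσ
  have hE : BlowUp.IsEffCartierIdeal EE := hσ.1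
  have hF := Ideal.EffCartier.isEffCartier_pow hE m
  have hFi := SurfInt.Effective.isInvertible_idealMod hF
  have hP : BlowUp.IsEffCartierIdeal (C' * EE ^ m) := Ideal.EffCartier.isEffCartier_mul hC' hF
  obtain ⟨-, ⟨ep⟩⟩ := FibreInt.nonempty_pullback_idealMod_of_not_mem σ (J := C) hC
    (by rw [hm]; exact genericPoint_notMem_support hP)
  have hCi := SurfInt.Effective.isInvertible_idealMod hC
  -- χ of the total transform, and of its twist by `mE`
  have hPχ : FGA.eulerCharLE k X (_root_.ClSub.idealMod (C' * EE ^ m)) 2 =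
      FGA.eulerCharLE k Y (_root_.ClSub.idealMod C) 2 := by
    rw [← hm, ← Chi.eulerCharLE_of_iso ep]
    exact eulerCharLE_pullback k hdim hreg hx hσk hσ hCi 2
  have hFχ : ∀ b : ℕ, 2 * FGA.eulerCharLE k X (_root_.ClSub.idealMod (EE ^ b)) 2 =
      2 * FGA.eulerCharLE k X (Coh.structureModule X) 2 - ((b : ℤ) * b + b) := fun b => by
    have h := two_mul_eulerCharLE_twist k hdim hreg hx hσk hσ (PicLoc.isInvertible_structureModule Y) b
    rw [Chi.eulerCharLE_of_iso (tensorIso (PicLoc.pullbackStructureIso σ) (Iso.refl _) ≪≫ leftUnit _),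
      ← eulerCharLE_structure k hdim hreg hx hσk hσ 2] at h
    exact h
  have hTχ : 2 * FGA.eulerCharLE k X
      (CohB1.tensorMod (_root_.ClSub.idealMod (C' * EE ^ m)) (_root_.ClSub.idealMod (EE ^ m))) 2 =
      2 * FGA.eulerCharLE k Y (_root_.ClSub.idealMod C) 2 - ((m : ℤ) * m + m) := by
    rw [← hm, ← Chi.eulerCharLE_of_iso (tensorIso ep (Iso.refl _))]
    exact two_mul_eulerCharLE_twist k hdim hreg hx hσk hσ hCi m
  have hadd := SurfInt.NegDef.intNum_mul (k := k) (Finite.cohFinite k X) hX2 hC' hF hFi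
  obtain ⟨e1⟩ := SurfInt.Mul.nonempty_idealMod_mul hF (EE ^ m)
  obtain ⟨e2⟩ := SurfInt.Mul.nonempty_idealMod_mul hC' (EE ^ m)
  rw [SurfInt.Hodge.intNum_expand, SurfInt.Hodge.intNum_expand, SurfInt.Hodge.intNum_expand,
    Chi.eulerCharLE_of_iso e1, Chi.eulerCharLE_of_iso e2, ← pow_add] at hadd
  have h2m := hFχ (m + m)
  have h1m := hFχ m
  push_cast at h2m
  linarith

end Groth.Agent.Lib.SurfFactor85.Euler
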