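import Groth.Agent.Lib.SurfFactor85.Seq
import Groth.Agent.Lib.CartierDescent.Stalk
import Groth.Agent.Lib.ModelFibre.StalkIdeal
import Groth.Agent.Lib.SurfInt.Stalk
import Groth.Agent.Lib.SurfInt.JPow

/-!
# The exceptional coefficient of a total transform is the multiplicity
-/

set_option autoImplicit false
set_option linter.style.haveILetI false
universe u

open CategoryTheory CategoryTheory.Limits AlgebraicGeometry TopologicalSpace

namespace Groth.Agent.Lib.SurfFactor85.Mult

open Groth.Agent.Lib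
open Groth.Agent.Lib.Ideal.Prime (stalkIdeal stalkIdeal_eq gen gen_mem gen_specializes)

variable {X Y : Scheme.{u}}

theorem stalkIdeal_mono {I J : X.IdealSheafData} (h : I ≤ J) (x : X) :
    stalkIdeal I x ≤ stalkIdeal J x := by
  obtain ⟨U, hU, hxU, -⟩ := exists_isAffineOpen_mem_and_subset (show x ∈ (⊤ : X.Opens) from trivial)
  rw [stalkIdeal_eq I ⟨U, hU⟩ hxU, stalkIdeal_eq J ⟨U, hU⟩ hxU]
  exact _root_.Ideal.map_mono (h _)

theorem le_of_stalk {I J : X.IdealSheafData} (h : ∀ x, stalkIdeal I x ≤ stalkIdeal J x) : I ≤ J :=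
  sup_eq_right.mp (ModelFibre.StalkIdeal.ext_of_stalkIdeal fun x => by
    rw [SurfInt.Stalk.stalkIdeal_sup, sup_eq_right.mpr (h x)])

theorem stalkIdeal_eq_top' {I : X.IdealSheafData} {x : X} (h : x ∉ I.support) : stalkIdeal I x = ⊤ :=
  not_not.1 fun hn => h (not_not.1 fun h' => hn ((ModelFibre.StalkIdeal.stalkIdeal_eq_top_iff I x).2 h'))

theorem comap_fromSpecStalk_eq (J : X.IdealSheafData) (x : X) :
    J.comap (X.fromSpecStalk x) = Curv2.idealSheaf (X.presheaf.stalk x) (stalkIdeal J x) := by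
  refine Scheme.IdealSheafData.ext_of_isAffine ?_
  rw [← CartierDescent.topIdeal_comap_fromSpecStalk, PointBlow85.idealSheaf_top, CartierDescent.topIdeal,
    _root_.Ideal.map_map, ← CommRingCat.hom_comp]
  erw [Iso.hom_inv_id]
  exact (_root_.Ideal.map_id _).symm

theorem stalkIdeal_pow_point (P : Y) (hP : IsClosed ({P} : Set Y)) (n : ℕ) :
    stalkIdeal (Scheme.IdealSheafData.vanishingIdeal ⟨{P}, hP⟩ ^ n) P =
      IsLocalRing.maximalIdeal (Y.presheaf.stalk P) ^ n := by
  rcases n with _ | n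
  · rw [pow_zero, pow_zero, Scheme.IdealSheafData.one_eq_top, _root_.Ideal.one_eq_top]
    exact stalkIdeal_eq_top' (by rw [Scheme.IdealSheafData.support_top]; exact fun h => h)
  · rw [SurfInt.JPow.stalkIdeal_pow, Main.stalkIdeal_vanishingIdeal_self]

theorem stalkIdeal_pow_off (P : Y) (hP : IsClosed ({P} : Set Y)) (n : ℕ) {y : Y} (hy : y ≠ P) :
    stalkIdeal (Scheme.IdealSheafData.vanishingIdeal ⟨{P}, hP⟩ ^ n) y = ⊤ := by
  rcases n with _ | n
  · rw [pow_zero, Scheme.IdealSheafData.one_eq_top]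
    exact stalkIdeal_eq_top' (by rw [Scheme.IdealSheafData.support_top]; exact fun h => h)
  · rw [SurfInt.JPow.stalkIdeal_pow, stalkIdeal_eq_top', _root_.Ideal.top_pow]
    rw [← SetLike.mem_coe, Scheme.IdealSheafData.coe_support_vanishingIdeal]
    simpa using hy

theorem not_comap_le [IsLocallyNoetherian Y] (π : X ⟶ Y) (P : Y) (hP : IsClosed ({P} : Set Y))
    [IsRegularLocalRing (Y.presheaf.stalk P)] (hdim : ringKrullDim (Y.presheaf.stalk P) = 2)
    (hπ : BlowUp.IsBlowUp π (Scheme.IdealSheafData.vanishingIdeal ⟨{P}, hP⟩))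
    {C : Y.IdealSheafData} (hC : BlowUp.IsEffCartierIdeal C) (m : ℕ)
    (hm : C ≤ Scheme.IdealSheafData.vanishingIdeal ⟨{P}, hP⟩ ^ m)
    (hm' : ¬ C ≤ Scheme.IdealSheafData.vanishingIdeal ⟨{P}, hP⟩ ^ (m + 1)) :
    ¬ C.comap π ≤ BlowUp.exceptional π (Scheme.IdealSheafData.vanishingIdeal ⟨{P}, hP⟩) ^ (m + 1) := by
  intro hle
  set j := Y.fromSpecStalk P
  haveI : Flat j := Unram.BaseChangeNhd.flat_fromSpecStalk P
  have hb := Ideal.BlowUp.isBlowUp_flat_baseChange j hπ
  rw [Flat55.ContractionUniversal.comap_vanishingIdeal_stalk] at hb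
  obtain ⟨U, hU, e, he, hCU⟩ := hC P
  set f := Y.presheaf.germ U.1 P hU e
  have hf : stalkIdeal C P = _root_.Ideal.span {f} := by
    rw [stalkIdeal_eq C U hU, hCU, _root_.Ideal.map_span, Set.image_singleton]
  have h1 : f ∈ IsLocalRing.maximalIdeal (Y.presheaf.stalk P) ^ m := by
    have := stalkIdeal_mono hm P
    rw [hf, stalkIdeal_pow_point, _root_.Ideal.span_singleton_le_iff_mem] at this
    exact this
  have h2 : f ∉ IsLocalRing.maximalIdeal (Y.presheaf.stalk P) ^ (m + 1) := by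
    intro h
    refine hm' (le_of_stalk fun y => ?_)
    by_cases hy : y = P
    · subst hy
      rw [hf, stalkIdeal_pow_point, _root_.Ideal.span_singleton_le_iff_mem]
      exact h
    · rw [stalkIdeal_pow_off P hP _ hy]
      exact le_top
  refine (PointBlow85.pullback_divisor hdim hb f m h1 h2).2.1 ?_
  have h3 := Scheme.IdealSheafData.comap_mono (pullback.snd j π) hle
  simp only at h3
  rw [BlowUp.exceptional, Lib.Ideal.Comap.comap_pow, ← Scheme.IdealSheafData.comap_comp,
    ← Scheme.IdealSheafData.comap_comp, ← pullback.condition, Scheme.IdealSheafData.comap_comp,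
    Scheme.IdealSheafData.comap_comp, comap_fromSpecStalk_eq, hf,
    Flat55.ContractionUniversal.comap_vanishingIdeal_stalk] at h3
  exact h3

end Groth.Agent.Lib.SurfFactor85.Mult
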